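import Groth.Agent.H02CA.BlowPts.Single
import Groth.Agent.H02CA.VBPn.Extend
import Groth.Agent.LeadR1.Local
import Groth.Agent.H23KS.Indec
import Groth.Agent.H02CA.Euler.Matrix
import Groth.Agent.H28Mero.RigidAut
import Groth.Agent.H15Site.Invertible
import Groth.Agent.H16Derived.PBQCNeg

/-!
# Maps of cokernels of maps between sums of two invertible modules
-/

set_option autoImplicit false
set_option linter.style.haveILetI false
set_option maxHeartbeats 1600000
universe u

open CategoryTheory CategoryTheory.Limits AlgebraicGeometry TopologicalSpace Opposite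
open Groth.Agent

namespace Groth.Agent.H02CA.BlowPts

attribute [local instance 10000] H10Coh.hasSheafifyAb H10Coh.hasWeakSheafifyAb H10Coh.hasExtAb H10Coh.enoughInjAb
attribute [local instance] H28Vert.picLaw

variable {X : Scheme.{u}}

/-- No maps between invertible modules when the quotient has no sections. -/
theorem hom_eq_zero_of_cvan {M N : X.Modules} (hM : PicF.IsInvertible M) (hN : PicF.IsInvertible N)
    (h : CVan 0 (PicGrp.cls N hN * (PicGrp.cls M hM)⁻¹)) (v : M ⟶ N) : v = 0 := by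
  obtain ⟨M', hM', hc⟩ := PicGrp.exists_eq_cls (PicGrp.cls M hM)⁻¹
  obtain ⟨e⟩ : Nonempty (CohB1.tensorMod M' M ≅ Coh.structureModule X) := by
    rw [← PicGrp.cls_eq_one_iff (H11Ample.isInvertible_tensor hM' hM),
      show PicGrp.cls _ (H11Ample.isInvertible_tensor hM' hM) = PicGrp.cls M' hM' * PicGrp.cls M hM from
        Subtype.ext (PicGrp.cls_mul_cls_val hM' hM).symm, ← hc, inv_mul_cancel]
  haveI hsub : Subsingleton (Coh.HH X (CohB1.tensorMod M' N) 0) := by
    rw [← cvan_iff (H11Ample.isInvertible_tensor hM' hN)]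
    rw [hc, mul_comm] at h
    rwa [show PicGrp.cls _ (H11Ample.isInvertible_tensor hM' hN) = PicGrp.cls M' hM' * PicGrp.cls N hN from
      Subtype.ext (PicGrp.cls_mul_cls_val hM' hN).symm]
  let T := (DCoh.tensorBi (X := X)).obj M'
  haveI : T.IsEquivalence := H15Site.Invertible.isEquivalence_of_iso_unit (O := X.sheaf) e
  haveI : T.PreservesZeroMorphisms := Functor.preservesZeroMorphisms_of_full T
  haveI : Subsingleton Γ(T.obj N, ⊤) :=
    haveI : Subsingleton (Coh.HH X (T.obj N) 0) := hsub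
    ((H10Coh.HHEquiv (T.obj N) 0).trans (H10Coh.H0Equiv (H10Coh.sh (T.obj N)) (⊤ : X.Opens))).symm.toEquiv.subsingleton
  let φ : Coh.structureModule X ⟶ T.obj N := e.inv ≫ T.map v
  have hφ : φ = 0 := Scheme.Modules.hom_ext _ _ fun W => by
    ext r
    rw [H06Mod.app_unit φ W r, show φ.app ⊤ (1 : Γ(X, ⊤)) = 0 from Subsingleton.elim _ _, map_zero, smul_zero]
    rfl
  refine T.map_injective ?_
  rw [T.map_zero, show T.map v = e.hom ≫ φ from (e.hom_inv_id_assoc _).symm, hφ, comp_zero]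
  rfl

/-- No maps between sums when there are none between the summands. -/
theorem sigma_hom_eq_zero {a b : ℕ} {M N : X.Modules} (h : ∀ v : M ⟶ N, v = 0)
    (v : (∐ fun _ : Fin a => M) ⟶ ∐ fun _ : Fin b => N) : v = 0 := by
  refine Sigma.hom_ext _ _ fun l => ?_
  refine (cancel_mono (biproduct.isoCoproduct fun _ : Fin b => N).inv).1 (biproduct.hom_ext _ _ fun j => ?_)
  exact (h _).trans (h _).symm

variable {k : Type u} [Field k] [X.Over (Spec (CommRingCat.of k))]

include k in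
/-- Maps out of a sum lift through an epimorphism when `H¹` of the twisted kernel vanishes. -/
theorem exists_lift_sigma [IsLocallyNoetherian X] {a b : ℕ} {M N : X.Modules} (hM : PicF.IsInvertible M) (hN : PicF.IsInvertible N)
    (h : CVan 1 (PicGrp.cls N hN * (PicGrp.cls M hM)⁻¹)) {P₁ Q₁ C : X.Modules}
    (hP : Nonempty (P₁ ≅ ∐ fun _ : Fin a => N)) (f : P₁ ⟶ Q₁) (π : Q₁ ⟶ C) (w : f ≫ π = 0)
    (hS : (ShortComplex.mk f π w).ShortExact) (g : (∐ fun _ : Fin b => M) ⟶ C) :
    ∃ β : (∐ fun _ : Fin b => M) ⟶ Q₁, β ≫ π = g := by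
  obtain ⟨M', hM', hc⟩ := PicGrp.exists_eq_cls (PicGrp.cls M hM)⁻¹
  obtain ⟨e⟩ : Nonempty (CohB1.tensorMod M M' ≅ Coh.structureModule X) := by
    rw [← PicGrp.cls_eq_one_iff (H11Ample.isInvertible_tensor hM hM'),
      show PicGrp.cls _ (H11Ample.isInvertible_tensor hM hM') = PicGrp.cls M hM * PicGrp.cls M' hM' from
        Subtype.ext (PicGrp.cls_mul_cls_val hM hM').symm, ← hc, mul_inv_cancel]
  have h1 : Subsingleton (Coh.HH X (CohB1.tensorMod (ShortComplex.mk f π w).X₁ M') 1) :=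
    sigma_tensor_van hP hN hM' (by rw [← hc]) h
  choose β hβ using fun l : Fin b => VBPn.exists_lift_of_h1 k hS hM' e h1 (Sigma.ι (fun _ : Fin b => M) l ≫ g)
  exact ⟨Sigma.desc β, Sigma.hom_ext _ _ fun l => by rw [Sigma.ι_desc_assoc]; exact hβ l⟩

/-- An endomorphism of an invertible module is a scalar when the global functions are constants. -/
theorem exists_scalar_inv (ρ : k →+* Coh.Γtop X) (hρ : Function.Surjective ρ) {M : X.Modules}
    (hM : PicF.IsInvertible M) (v : M ⟶ M) : ∃ c : k, v = Formal.smulModΓ M (ρ c) := by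
  obtain ⟨a, ha⟩ := H28Mero.exists_eq_mul hM v
  obtain ⟨c, hc⟩ := hρ a
  refine ⟨c, H23KS.hom_ext_stalkLin fun y ε => ?_⟩
  obtain ⟨U, hy, m, rfl⟩ := M.presheaf.exists_germ_eq ε
  rw [ha, H06Mod.stalkLin_germ, Euler.smulModΓ_app, H06Mod.germ_smul, TopCat.Presheaf.germ_res_apply, hc]

/-- A matrix of scalars. -/
theorem exists_mat (ρ : k →+* Coh.Γtop X) (hρ : Function.Surjective ρ) {a : ℕ} {M : X.Modules}
    (hM : PicF.IsInvertible M) (v : (∐ fun _ : Fin a => M) ⟶ ∐ fun _ : Fin a => M) :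
    ∃ B : (Fin a → k) →ₗ[k] (Fin a → k), v = Euler.mat ρ M B := by
  let q : ∀ j : Fin a, (∐ fun _ : Fin a => M) ⟶ M := fun j =>
    (biproduct.isoCoproduct fun _ : Fin a => M).inv ≫ biproduct.π _ j
  choose c hc using fun l j : Fin a => exists_scalar_inv ρ hρ hM (Sigma.ι (fun _ : Fin a => M) l ≫ v ≫ q j)
  refine ⟨(Pi.basisFun k (Fin a)).constr k c, Sigma.hom_ext _ _ fun l => ?_⟩
  rw [Euler.ι_mat, ← Pi.basisFun_apply k (Fin a) l, Module.Basis.constr_basis]
  simp only [← hc, Category.assoc]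
  rw [← Preadditive.comp_sum]
  congr 1
  rw [← Preadditive.comp_sum]
  refine (Category.comp_id v).symm.trans (congrArg (v ≫ ·) ?_)
  rw [← LeadR1.sum_π_ι (fun _ : Fin a => M)]

theorem mat_smul_id (ρ : k →+* Coh.Γtop X) {a : ℕ} (M : X.Modules) (c : k) :
    Euler.mat ρ M (c • (LinearMap.id : (Fin a → k) →ₗ[k] (Fin a → k))) = Formal.smulModΓ _ (ρ c) := by
  refine Sigma.hom_ext _ _ fun l => ?_
  rw [Euler.ι_mat, Finset.sum_eq_single l]
  · rw [LinearMap.smul_apply, LinearMap.id_apply, Pi.smul_apply, Pi.single_eq_same, smul_eq_mul, mul_one,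
      Euler.smulModΓ_natural]
  · intro j _ hj
    rw [LinearMap.smul_apply, LinearMap.id_apply, Pi.smul_apply, Pi.single_eq_of_ne hj, smul_zero, map_zero,
      Euler.smulModΓ_zero, zero_comp]
  · simp

/-- All but finitely many shifts of an endomorphism of a sum are invertible. -/
theorem finite_not_isIso (ρ : k →+* Coh.Γtop X) (hρ : Function.Surjective ρ) {a : ℕ} {M P₁ : X.Modules}
    (hM : PicF.IsInvertible M) (e : P₁ ≅ ∐ fun _ : Fin a => M) (v : P₁ ⟶ P₁) :
    {c : k | ¬ IsIso (v + Formal.smulModΓ P₁ (ρ c))}.Finite := by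
  obtain ⟨B, hB⟩ := exists_mat ρ hρ hM (e.inv ≫ v ≫ e.hom)
  refine ((Module.End.finite_spectrum (B : Module.End k (Fin a → k))).image Neg.neg).subset fun c hc => ⟨-c, ?_, neg_neg c⟩
  rw [spectrum.mem_iff]
  intro hu
  apply hc
  have hu' : IsUnit (B + c • (LinearMap.id : (Fin a → k) →ₗ[k] (Fin a → k)) : Module.End k (Fin a → k)) := by
    have := hu.neg
    rw [neg_sub, map_neg, sub_neg_eq_add, Algebra.algebraMap_eq_smul_one] at this
    exact this
  obtain ⟨⟨T, T', h1, h2⟩, hT⟩ := hu'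
  haveI : IsIso (Euler.mat ρ M T) := ⟨Euler.mat ρ M T', by
    rw [Euler.mat_comp, show T' ∘ₗ T = LinearMap.id from h2, Euler.mat_id], by
    rw [Euler.mat_comp, show T ∘ₗ T' = LinearMap.id from h1, Euler.mat_id]⟩
  have hv : v + Formal.smulModΓ P₁ (ρ c) = e.hom ≫ Euler.mat ρ M T ≫ e.inv := by
    rw [show T = B + c • LinearMap.id from hT, Euler.mat_add, ← hB, mat_smul_id, Preadditive.add_comp,
      Preadditive.comp_add, Euler.smulModΓ_natural]
    simp
  rw [hv]
  infer_instance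

end Groth.Agent.H02CA.BlowPts
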