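import Groth.Agent.H02CA.BlowPts.Single

/-!
# The anticanonical module of the blow-up at no more than one point
-/

set_option autoImplicit false
set_option linter.style.haveILetI false
set_option maxHeartbeats 1600000
universe u

open CategoryTheory CategoryTheory.Limits AlgebraicGeometry TopologicalSpace Opposite
open Groth.Agent

namespace Groth.Agent.H02CA.BlowPts

attribute [local instance] H28Vert.picLaw

variable {k : Type u} [Field k] [IsAlgClosed k] {n s : ℕ} {P : Fin s → CohB1.ProjSpace (n + 1) k}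
  (hP : Function.Injective P) (hPc : ∀ t, IsClosed ({P t} : Set (CohB1.ProjSpace (n + 1) k)))
  {hZ : IsClosed (Set.range P)} {X : Scheme.{u}} {π : X ⟶ CohB1.ProjSpace (n + 1) k}
  (hπ : BlowUp.IsBlowUp π (IZ P hZ))

include hP hPc hπ in
theorem exists_single : ∃ (D : Data k n X s), (s = 1 → D.HasSec) ∧ D.h = hh π ∧
    D.u = uu (hPc := hPc) hP hπ := by
  haveI := isLocallyNoetherian_blowUp hπ
  obtain ⟨D, h1, h2⟩ := exists_data (hPc := hPc) hP hπ
  exact ⟨D, hasSec_of_eq D hP hπ h1 h2, h1, h2⟩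

include hP hPc in
/-- The class of `π^*O(c) ⊗ I_E^e`. -/
theorem cls_pow_mod (D : Data k n X s) [IsLocallyNoetherian X] (hh' : D.h = hh π)
    (hu : D.u = uu (hPc := hPc) hP hπ) (c : ℤ) (e : ℕ) :
    ∃ h : PicF.IsInvertible (CohB1.tensorMod ((Scheme.Modules.pullback π).obj (Twist.twistProjSpace (n + 1) k c))
        (CohB1.tensorPow (ClSub.idealMod (BlowUp.exceptional π (IZ P hZ))) e)),
      PicGrp.cls _ h = D.cl' c e := by
  obtain ⟨h₁, e₁⟩ := cls_pullback_twist π c
  have hJ := H29Blow.isInvertible_of_isEffCartierIdeal _ hπ.1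
  refine ⟨H11Ample.isInvertible_tensor h₁ (H28Vert.isInvertible_tensorPow hJ e), ?_⟩
  rw [show PicGrp.cls _ (H11Ample.isInvertible_tensor h₁ (H28Vert.isInvertible_tensorPow hJ e)) =
      PicGrp.cls _ h₁ * PicGrp.cls _ (H28Vert.isInvertible_tensorPow hJ e) from
    Subtype.ext (PicGrp.cls_mul_cls_val _ _).symm, e₁, H28Vert.cls_tensorPow hJ, cls_exceptional (hPc := hPc) hP hπ,
    D.cl'_eq, hh', hu, zpow_natCast]
  rfl

theorem cl'_pow (D : Data k n X s) [IsLocallyNoetherian X] (c d : ℤ) (t : ℕ) :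
    D.cl' c d ^ t = D.cl' (c * t) (d * t) := by
  rw [D.cl'_eq, D.cl'_eq, mul_pow, ← zpow_natCast, ← zpow_natCast, ← zpow_mul, ← zpow_mul]

theorem cl'_mul (D : Data k n X s) [IsLocallyNoetherian X] (a b c d : ℤ) :
    D.cl' a b * D.cl' c d = D.cl' (a + c) (b + d) := by
  rw [D.cl'_eq, D.cl'_eq, D.cl'_eq, zpow_add, zpow_add]
  exact mul_mul_mul_comm _ _ _ _

theorem cl'_inv (D : Data k n X s) [IsLocallyNoetherian X] (c d : ℤ) : (D.cl' c d)⁻¹ = D.cl' (-c) (-d) := by
  rw [D.cl'_eq, D.cl'_eq, zpow_neg, zpow_neg, mul_inv]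

end Groth.Agent.H02CA.BlowPts
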