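import Groth.Agent.H02CA.BlowPts.CokerHom
import Groth.Agent.H02CA.BlowPts.Rows2

/-!
# Simplicity and isomorphism classes of the cokernels on the blow-up
-/

set_option autoImplicit false
set_option linter.style.haveILetI false
set_option maxHeartbeats 1600000
universe u

open CategoryTheory CategoryTheory.Limits AlgebraicGeometry TopologicalSpace Opposite
open Groth.Agent

namespace Groth.Agent.H02CA.BlowPts

attribute [local instance] H28Vert.picLaw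

variable {k : Type u} [Field k] [IsAlgClosed k] {n s : ℕ} {P : Fin s → CohB1.ProjSpace (n + 1) k}
  (hP : Function.Injective P) (hPc : ∀ t, IsClosed ({P t} : Set (CohB1.ProjSpace (n + 1) k)))
  {hZ : IsClosed (Set.range P)} {X : Scheme.{u}} {π : X ⟶ CohB1.ProjSpace (n + 1) k}
  (hπ : BlowUp.IsBlowUp π (IZ P hZ))


include hP hPc hπ in
theorem isIntegral_blowUp : IsIntegral X := by
  haveI : IsIntegral (CohB1.ProjSpace (n + 1) k) := LeadPic.PnRel.isIntegral_projSpace (n := n + 1) k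
  obtain ⟨h, -, -⟩ := S2348.result _ (IZ_ne_bot P hZ) π hπ
  exact h

include hP hPc hπ in
theorem surjective_toGlobal :
    Function.Surjective (Coh.toGlobal (π ≫ CohB1.ProjSpace.toSpec (n + 1) k)) := by
  haveI := isProper_blowUp hπ
  haveI := isIntegral_blowUp hP hPc hπ
  exact (bijective_const (π ≫ CohB1.ProjSpace.toSpec (n + 1) k)).2

variable (hn : 1 ≤ n) {a b : ℕ}

include hP hPc hπ hn in
/-- The twist `((Scheme.Modules.pullback π).obj (Twist.twistProjSpace (n + 1) k (-1)))` of the kernel has no cohomology in degrees zero and one. -/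
theorem cvan_shift {q : ℕ} (hq : q ≤ 1) :
    ∃ (h1 : PicF.IsInvertible ((Scheme.Modules.pullback π).obj (Twist.twistProjSpace (n + 1) k (-1)))) (h2 : PicF.IsInvertible ((Scheme.Modules.pullback π).obj (Twist.twistProjSpace (n + 1) k (-2)))),
      CVan q (PicGrp.cls ((Scheme.Modules.pullback π).obj (Twist.twistProjSpace (n + 1) k (-2))) h2 * (PicGrp.cls ((Scheme.Modules.pullback π).obj (Twist.twistProjSpace (n + 1) k (-1))) h1)⁻¹) := by
  haveI := isLocallyNoetherian_blowUp hπ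
  obtain ⟨D, -, hh', -⟩ := exists_single hP hPc hπ
  obtain ⟨h1, e1⟩ := cls_pullback_twist (k := k) π (-1)
  obtain ⟨h2, e2⟩ := cls_pullback_twist (k := k) π (-2)
  refine ⟨h1, h2, ?_⟩
  rw [e1, e2, ← zpow_neg, ← zpow_add, show (-2 : ℤ) + - -1 = -1 by norm_num, ← hh, ← hh']
  rcases Nat.le_one_iff_eq_zero_or_eq_one.1 hq with rfl | rfl
  · exact D.cvan_pow_zero hn (by omega)
  · exact D.cvan_pow hn Nat.one_pos (fun h => absurd h (by omega)) (Or.inl (by omega))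

include hP hPc hπ hn in
/-- A map of cokernels lifts to a map of presentations. -/
theorem exists_lift_pair {P₁ Q₁ P₂ Q₂ : X.Modules}
    (hP₂ : Nonempty (P₂ ≅ ∐ fun _ : Fin a => ((Scheme.Modules.pullback π).obj (Twist.twistProjSpace (n + 1) k (-2))))) (hQ₁ : Nonempty (Q₁ ≅ ∐ fun _ : Fin b => ((Scheme.Modules.pullback π).obj (Twist.twistProjSpace (n + 1) k (-1)))))
    (f : P₁ ⟶ Q₁) (f' : P₂ ⟶ Q₂) [Mono f'] (φ : cokernel f ⟶ cokernel f') :
    ∃ (β : Q₁ ⟶ Q₂) (γ : P₁ ⟶ P₂), γ ≫ f' = f ≫ β ∧ β ≫ cokernel.π f' = cokernel.π f ≫ φ := by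
  haveI := isLocallyNoetherian_blowUp hπ
  letI : X.Over (Spec (CommRingCat.of k)) := ⟨π ≫ CohB1.ProjSpace.toSpec (n + 1) k⟩
  obtain ⟨h1, h2, hv⟩ := cvan_shift hP hPc hπ hn (q := 1) le_rfl
  obtain ⟨eQ⟩ := hQ₁
  have hS : (ShortComplex.mk f' (cokernel.π f') (cokernel.condition f')).ShortExact :=
    { exact := ShortComplex.exact_cokernel _ }
  obtain ⟨β, hβ⟩ := exists_lift_sigma (k := k) h1 h2 hv hP₂ f' _ _ hS (eQ.inv ≫ cokernel.π f ≫ φ)
  have hβ' : (eQ.hom ≫ β) ≫ cokernel.π f' = cokernel.π f ≫ φ := by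
    rw [Category.assoc, hβ, eQ.hom_inv_id_assoc]
  have h0 : (f ≫ eQ.hom ≫ β) ≫ cokernel.π f' = 0 := by
    rw [Category.assoc, hβ', cokernel.condition_assoc, zero_comp]
  exact ⟨eQ.hom ≫ β, hS.exact.lift _ h0, hS.exact.lift_f _ h0, hβ'⟩

include hP hPc hπ hn in
/-- Maps from the generators to the relations vanish. -/
theorem hom_eq_zero {P₂ Q₁ : X.Modules}
    (hP₂ : Nonempty (P₂ ≅ ∐ fun _ : Fin a => ((Scheme.Modules.pullback π).obj (Twist.twistProjSpace (n + 1) k (-2))))) (hQ₁ : Nonempty (Q₁ ≅ ∐ fun _ : Fin b => ((Scheme.Modules.pullback π).obj (Twist.twistProjSpace (n + 1) k (-1)))))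
    (v : Q₁ ⟶ P₂) : v = 0 := by
  obtain ⟨h1, h2, hv⟩ := cvan_shift hP hPc hπ hn (q := 0) (by omega)
  obtain ⟨eQ⟩ := hQ₁
  obtain ⟨eP⟩ := hP₂
  have := sigma_hom_eq_zero (hom_eq_zero_of_cvan h1 h2 hv) (eQ.inv ≫ v ≫ eP.hom)
  rw [← cancel_epi eQ.inv, ← cancel_mono eP.hom, Category.assoc, this]
  simp

include hP hPc hπ hn in
theorem coker_simple {P₁ Q₁ : X.Modules}
    (hP₁ : Nonempty (P₁ ≅ ∐ fun _ : Fin a => ((Scheme.Modules.pullback π).obj (Twist.twistProjSpace (n + 1) k (-2))))) (hQ₁ : Nonempty (Q₁ ≅ ∐ fun _ : Fin b => ((Scheme.Modules.pullback π).obj (Twist.twistProjSpace (n + 1) k (-1)))))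
    (f : P₁ ⟶ Q₁) [Mono f]
    (hstab : ∀ (β : Q₁ ≅ Q₁) (γ : P₁ ≅ P₁), γ.hom ≫ f = f ≫ β.hom →
      ∃ c : k, (SheafOfModules.toSheaf X.ringCatSheaf).map β.hom =
          Coh.smulAb Q₁ (Coh.toGlobal (π ≫ CohB1.ProjSpace.toSpec (n + 1) k) c) ∧
        (SheafOfModules.toSheaf X.ringCatSheaf).map γ.hom =
          Coh.smulAb P₁ (Coh.toGlobal (π ≫ CohB1.ProjSpace.toSpec (n + 1) k) c))
    (φ : cokernel f ⟶ cokernel f) :
    ∃ c : k, (SheafOfModules.toSheaf X.ringCatSheaf).map φ =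
      Coh.smulAb (cokernel f) (Coh.toGlobal (π ≫ CohB1.ProjSpace.toSpec (n + 1) k) c) := by
  haveI := isLocallyNoetherian_blowUp hπ
  letI : X.Over (Spec (CommRingCat.of k)) := ⟨π ≫ CohB1.ProjSpace.toSpec (n + 1) k⟩
  have hρ := surjective_toGlobal hP hPc hπ
  obtain ⟨h1, h2, -⟩ := cvan_shift hP hPc hπ hn (q := 1) le_rfl
  obtain ⟨β, γ, hfβ, hβ⟩ := exists_lift_pair hP hPc hπ hn hP₁ hQ₁ f f φ
  obtain ⟨eP⟩ := hP₁
  obtain ⟨eQ⟩ := hQ₁
  let ρ := Coh.toGlobal (π ≫ CohB1.ProjSpace.toSpec (n + 1) k)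
  obtain ⟨c, hc⟩ := (((finite_not_isIso ρ hρ h1 eQ β).union (finite_not_isIso ρ hρ h2 eP γ))).exists_notMem
  simp only [Set.mem_union, Set.mem_setOf_eq, not_or, not_not] at hc
  haveI := hc.1
  haveI := hc.2
  obtain ⟨c₀, hc₀, -⟩ := hstab (asIso (β + Formal.smulModΓ Q₁ (ρ c))) (asIso (γ + Formal.smulModΓ P₁ (ρ c))) (by
    simp only [asIso_hom, Preadditive.add_comp, Preadditive.comp_add, hfβ, Euler.smulModΓ_natural])
  have hb : β + Formal.smulModΓ Q₁ (ρ c) = Formal.smulModΓ Q₁ (ρ c₀) :=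
    (SheafOfModules.toSheaf X.ringCatSheaf).map_injective (hc₀.trans (Euler.toSheaf_smulModΓ _ _).symm)
  refine ⟨c₀ - c, ?_⟩
  refine (congrArg (SheafOfModules.toSheaf X.ringCatSheaf).map ?_).trans (Euler.toSheaf_smulModΓ _ _)
  refine (cancel_epi (cokernel.π f)).1 (hβ.symm.trans ?_)
  rw [← Euler.smulModΓ_natural, eq_sub_of_add_eq hb, map_sub]
  congr 1
  rw [eq_comm, eq_sub_iff_add_eq, ← Euler.smulModΓ_add]
  congr 1
  exact sub_add_cancel _ _

include hP hPc hπ hn in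
theorem coker_iso_iff {P₁ Q₁ : X.Modules}
    (hP₁ : Nonempty (P₁ ≅ ∐ fun _ : Fin a => ((Scheme.Modules.pullback π).obj (Twist.twistProjSpace (n + 1) k (-2))))) (hQ₁ : Nonempty (Q₁ ≅ ∐ fun _ : Fin b => ((Scheme.Modules.pullback π).obj (Twist.twistProjSpace (n + 1) k (-1)))))
    (f f' : P₁ ⟶ Q₁) [Mono f] [Mono f'] :
    Nonempty (cokernel f ≅ cokernel f') ↔ ∃ (β : Q₁ ≅ Q₁) (γ : P₁ ≅ P₁), f ≫ β.hom = γ.hom ≫ f' := by
  constructor
  · rintro ⟨e⟩
    obtain ⟨β, γ, h, hβ⟩ := exists_lift_pair hP hPc hπ hn hP₁ hQ₁ f f' e.hom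
    obtain ⟨β', γ', h', hβ'⟩ := exists_lift_pair hP hPc hπ hn hP₁ hQ₁ f' f e.inv
    have key : ∀ (g : P₁ ⟶ Q₁) [Mono g] (v : Q₁ ⟶ Q₁) (w : P₁ ⟶ P₁), w ≫ g = g ≫ v →
        v ≫ cokernel.π g = cokernel.π g → v = 𝟙 _ ∧ w = 𝟙 _ := by
      intro g _ v w hw hv
      have hS : (ShortComplex.mk g (cokernel.π g) (cokernel.condition g)).ShortExact :=
        { exact := ShortComplex.exact_cokernel _ }
      have h0 : (v - 𝟙 _) ≫ cokernel.π g = 0 := by rw [Preadditive.sub_comp, hv, Category.id_comp, sub_self]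
      have hv1 : v = 𝟙 _ := sub_eq_zero.1 (by
        rw [← hS.exact.lift_f _ h0, hom_eq_zero hP hPc hπ hn hP₁ hQ₁ (hS.exact.lift _ h0), zero_comp])
      refine ⟨hv1, (cancel_mono g).1 ?_⟩
      rw [hw, hv1, Category.comp_id, Category.id_comp]
    obtain ⟨b1, g1⟩ := key f (β ≫ β') (γ ≫ γ') (by rw [Category.assoc, h', reassoc_of% h])
      (by rw [Category.assoc, hβ', reassoc_of% hβ, e.hom_inv_id, Category.comp_id])
    obtain ⟨b2, g2⟩ := key f' (β' ≫ β) (γ' ≫ γ) (by rw [Category.assoc, h, reassoc_of% h'])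
      (by rw [Category.assoc, hβ, reassoc_of% hβ', e.inv_hom_id, Category.comp_id])
    exact ⟨⟨β, β', b1, b2⟩, ⟨γ, γ', g1, g2⟩, h.symm⟩
  · rintro ⟨β, γ, h⟩
    exact ⟨cokernel.mapIso f f' γ β h⟩

end Groth.Agent.H02CA.BlowPts
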