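import Groth.Agent.H02CA.BlowPts.Pic

/-!
# Cohomology on a blow-up of projective space at points, from its restriction data
-/

set_option autoImplicit false
set_option linter.style.haveILetI false
set_option maxHeartbeats 1600000
universe u

open CategoryTheory CategoryTheory.Limits AlgebraicGeometry TopologicalSpace Opposite
open Groth.Agent

namespace Groth.Agent.H02CA.BlowPts

attribute [local instance] H28Vert.picLaw

/-- What the computation of cohomology uses about the blow-up of `P^{n+1}` at `s` points: the pull-back `h` of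
`O(1)`, the exceptional classes `u`, a hyperplane missing the points and the exceptional divisors. -/
structure Data (k : Type u) [Field k] (n : ℕ) (X : Scheme.{u}) (s : ℕ) where
  h : PicLoc.PicSet X
  u : Fin s → PicLoc.PicSet X
  e : CohB1.ProjSpace n k ⟶ X
  e_closed : IsClosedImmersion e
  e_inv : PicF.IsInvertible (ClSub.idealMod e.ker)
  cls_e : PicGrp.cls (ClSub.idealMod e.ker) e_inv = h⁻¹
  res_e_h : res e h = O1 n k
  res_e_u : ∀ t, res e (u t) = 1
  ι : Fin s → (CohB1.ProjSpace n k ⟶ X)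
  ι_closed : ∀ t, IsClosedImmersion (ι t)
  ι_inv : ∀ t, PicF.IsInvertible (ClSub.idealMod (ι t).ker)
  cls_ι : ∀ t, PicGrp.cls (ClSub.idealMod (ι t).ker) (ι_inv t) = u t
  res_ι_h : ∀ t, res (ι t) h = 1
  res_ι_u : ∀ t, res (ι t) (u t) = O1 n k
  res_ι_u' : ∀ t t', t' ≠ t → res (ι t) (u t') = 1
  amp : ∃ (C : ℕ) (D : ℕ), ∀ q, 0 < q → CVan q (h ^ (C : ℤ) * ∏ t, u t ^ D)
  h0neg : CVan 0 h⁻¹
  lift : ∀ c : ℕ, CVan 1 (h ^ (c : ℤ)) → CVan 1 (h ^ ((c : ℤ) - 1))

variable {k : Type u} [Field k] {n : ℕ} {X : Scheme.{u}} [IsLocallyNoetherian X] {s : ℕ} (D : Data k n X s)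

/-- The classes `h^c ∏ u^d`. -/
noncomputable def Data.cl (c : ℤ) (d : Fin s → ℤ) : PicLoc.PicSet X := D.h ^ c * ∏ t, D.u t ^ d t

theorem Data.res_e_cl (c : ℤ) (d : Fin s → ℤ) : res D.e (D.cl c d) = O1 n k ^ c := by
  rw [Data.cl, map_mul, map_zpow, D.res_e_h, map_prod, Finset.prod_eq_one fun t _ => by
    rw [map_zpow, D.res_e_u, one_zpow], mul_one]

theorem Data.res_ι_cl (t : Fin s) (c : ℤ) (d : Fin s → ℤ) : res (D.ι t) (D.cl c d) = O1 n k ^ d t := by
  rw [Data.cl, map_mul, map_zpow, D.res_ι_h, one_zpow, one_mul, map_prod,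
    Finset.prod_eq_single t (fun t' _ ht => by rw [map_zpow, D.res_ι_u' t t' ht, one_zpow])
      (fun h => absurd (Finset.mem_univ t) h), map_zpow, D.res_ι_u]

theorem Data.cl_add_single (c : ℤ) (d : Fin s → ℤ) (t : Fin s) :
    D.cl c (d + Pi.single t 1) = D.cl c d * D.u t := by
  classical
  rw [Data.cl, Data.cl, mul_assoc]
  congr 1
  simp only [Pi.add_apply, zpow_add, Finset.prod_mul_distrib]
  congr 1
  rw [Finset.prod_eq_single t (fun t' _ ht => by rw [Pi.single_eq_of_ne ht, zpow_zero])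
    (fun h => absurd (Finset.mem_univ t) h), Pi.single_eq_same, zpow_one]

theorem Data.cl_sub_one (c : ℤ) (d : Fin s → ℤ) : D.cl (c - 1) d = D.cl c d * D.h⁻¹ := by
  rw [Data.cl, Data.cl, zpow_sub_one, mul_right_comm]

theorem Data.cl_zero (c : ℤ) : D.cl c 0 = D.h ^ c := by
  simp [Data.cl]

variable {q : ℕ} {c : ℤ} {d : Fin s → ℤ}

theorem Data.ι_down (t : Fin s) (h₀ : ¬(q = 0 ∧ 0 ≤ d t)) (h₁ : ¬(q = n ∧ d t ≤ -((n : ℤ) + 1)))
    (h : CVan q (D.cl c (d + Pi.single t 1))) : CVan q (D.cl c d) := by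
  haveI := D.ι_closed t
  haveI := H22Alg.CMHyper.noetherian k n
  have hs := (cvan_seq (D.ι t) rfl (D.ι_inv t) (D.cl c d)).1 q
  rw [D.cls_ι, ← D.cl_add_single, D.res_ι_cl] at hs
  exact hs h (cvan_twist n _ q h₀ h₁)

theorem Data.ι_up (t : Fin s) (h₀ : ¬(q = 0 ∧ 0 ≤ d t)) (h₁ : ¬(q = n ∧ d t ≤ -((n : ℤ) + 1)))
    (h : CVan (q + 1) (D.cl c d)) : CVan (q + 1) (D.cl c (d + Pi.single t 1)) := by
  haveI := D.ι_closed t
  haveI := H22Alg.CMHyper.noetherian k n
  have hs := (cvan_seq (D.ι t) rfl (D.ι_inv t) (D.cl c d)).2.1 q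
  rw [D.cls_ι, ← D.cl_add_single, D.res_ι_cl] at hs
  exact hs h (cvan_twist n _ q h₀ h₁)

theorem Data.ι_up_zero (t : Fin s) (h : CVan 0 (D.cl c d)) : CVan 0 (D.cl c (d + Pi.single t 1)) := by
  haveI := D.ι_closed t
  haveI := H22Alg.CMHyper.noetherian k n
  have hs := (cvan_seq (D.ι t) rfl (D.ι_inv t) (D.cl c d)).2.2
  rw [D.cls_ι, ← D.cl_add_single] at hs
  exact hs h

theorem Data.e_down (h₀ : ¬(q = 0 ∧ 0 ≤ c)) (h₁ : ¬(q = n ∧ c ≤ -((n : ℤ) + 1)))
    (h : CVan q (D.cl (c - 1) d)) : CVan q (D.cl c d) := by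
  haveI := D.e_closed
  haveI := H22Alg.CMHyper.noetherian k n
  have hs := (cvan_seq D.e rfl D.e_inv (D.cl c d)).1 q
  rw [D.cls_e, ← D.cl_sub_one, D.res_e_cl] at hs
  exact hs h (cvan_twist n _ q h₀ h₁)

theorem Data.e_up (h₀ : ¬(q = 0 ∧ 0 ≤ c)) (h₁ : ¬(q = n ∧ c ≤ -((n : ℤ) + 1)))
    (h : CVan (q + 1) (D.cl c d)) : CVan (q + 1) (D.cl (c - 1) d) := by
  haveI := D.e_closed
  haveI := H22Alg.CMHyper.noetherian k n
  have hs := (cvan_seq D.e rfl D.e_inv (D.cl c d)).2.1 q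
  rw [D.cls_e, ← D.cl_sub_one, D.res_e_cl] at hs
  exact hs h (cvan_twist n _ q h₀ h₁)

theorem Data.e_up_zero (h : CVan 0 (D.cl c d)) : CVan 0 (D.cl (c - 1) d) := by
  haveI := D.e_closed
  haveI := H22Alg.CMHyper.noetherian k n
  have hs := (cvan_seq D.e rfl D.e_inv (D.cl c d)).2.2
  rw [D.cls_e, ← D.cl_sub_one] at hs
  exact hs h

/-- Transport between `d ≥ 0` and `0`. -/
theorem nat_induction {P : (Fin s → ℕ) → Prop} (h0 : P 0)
    (hstep : ∀ (d : Fin s → ℕ) (t : Fin s), P d → P (d + Pi.single t 1)) : ∀ d, P d := by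
  classical
  intro d
  induction hN : ∑ t, d t generalizing d with
  | zero =>
    have : d = 0 := funext fun t => (Finset.sum_eq_zero_iff.1 hN) t (Finset.mem_univ t)
    exact this ▸ h0
  | succ N ih =>
    obtain ⟨t, ht⟩ : ∃ t, d t ≠ 0 := by
      by_contra hc
      push Not at hc
      simp [hc] at hN
    have hd : d = Function.update d t (d t - 1) + Pi.single t 1 := funext fun t' => by
      rcases eq_or_ne t' t with rfl | hne
      · simp; omega
      · simp [hne]
    rw [hd]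
    refine hstep _ t (ih _ ?_)
    have hsum := Finset.sum_update_of_mem (Finset.mem_univ t) d (d t - 1)
    have h2 := Finset.sum_sdiff (f := d) (Finset.subset_univ ({t} : Finset (Fin s)))
    rw [Finset.sum_singleton] at h2
    omega

/-- The exponents of a family of natural numbers. -/
abbrev nexp (d : Fin s → ℕ) : Fin s → ℤ := fun t => (d t : ℤ)

theorem nexp_add_single (d : Fin s → ℕ) (t : Fin s) : nexp (d + Pi.single t 1) = nexp d + Pi.single t 1 := by
  funext t'
  rcases eq_or_ne t' t with rfl | hne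
  · simp [nexp]
  · simp [nexp, hne]

theorem nexp_zero : nexp (0 : Fin s → ℕ) = 0 := funext fun _ => Int.ofNat_zero

variable (hn : 1 ≤ n)

include hn

theorem Data.exists_large : ∃ C : ℤ, ∀ c, C ≤ c → ∀ q, 0 < q → CVan q (D.h ^ c) := by
  obtain ⟨C, E, hE⟩ := D.amp
  have hC : ∀ q, 0 < q → CVan q (D.h ^ (C : ℤ)) := fun q hq => by
    have key : ∀ d : Fin s → ℕ, CVan q (D.cl C (nexp d)) → CVan q (D.cl C 0) := by
      refine nat_induction (fun h => nexp_zero (s := s) ▸ h) fun d t ih h => ih ?_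
      exact D.ι_down t (by omega) (by simp only [nexp]; omega) (nexp_add_single d t ▸ h)
    rw [← D.cl_zero]
    refine key (fun _ => E) ?_
    have := hE q hq
    simpa [Data.cl, nexp] using this
  have hup : ∀ (m : ℕ), ∀ q, 0 < q → CVan q (D.h ^ ((C : ℤ) + m)) := by
    intro m
    induction m with
    | zero => simpa using hC
    | succ m ih =>
      intro q hq
      rw [← D.cl_zero]
      refine D.e_down (by omega) (by omega) ?_
      rw [show (C : ℤ) + ((m + 1 : ℕ) : ℤ) - 1 = C + m by push_cast; ring, D.cl_zero]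
      exact ih q hq
  refine ⟨C, fun c hc q hq => ?_⟩
  obtain ⟨m, rfl⟩ : ∃ m : ℕ, c = (C : ℤ) + m := ⟨(c - C).toNat, by omega⟩
  exact hup m q hq

theorem Data.cvan_pow_zero (hc : c < 0) : CVan 0 (D.h ^ c) := by
  obtain ⟨m, rfl⟩ : ∃ m : ℕ, c = -1 - m := ⟨(-1 - c).toNat, by omega⟩
  induction m with
  | zero => simpa using D.h0neg
  | succ m ih =>
    rw [show (-1 : ℤ) - ((m + 1 : ℕ) : ℤ) = -1 - m - 1 by push_cast; ring, ← D.cl_zero]
    exact D.e_up_zero (by rw [D.cl_zero]; exact ih (by omega))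

/-- The cohomology of the powers of the pull-back of `O(1)`. -/
theorem Data.cvan_pow (hq : 0 < q) (hc : q = n + 1 → -((n : ℤ) + 1) ≤ c) (hq' : q ≤ n + 1 ∨ -((n : ℤ) + 1) ≤ c) :
    CVan q (D.h ^ c) := by
  obtain ⟨C, hC⟩ := D.exists_large hn
  suffices H : ∀ (m : ℕ) (c : ℤ), C ≤ c + m → (q = n + 1 → -((n : ℤ) + 1) ≤ c) →
      (q ≤ n + 1 ∨ -((n : ℤ) + 1) ≤ c) → CVan q (D.h ^ c) from H (C - c).toNat c (by omega) hc hq'
  intro m
  induction m with
  | zero => intro c h _ _; exact hC c (by omega) q hq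
  | succ m ih =>
    intro c h h1 h2
    have hnext := ih (c + 1) (by push_cast at h; omega) (fun e => by have := h1 e; omega) (by omega)
    obtain ⟨q, rfl⟩ : ∃ q', q = q' + 1 := ⟨q - 1, by omega⟩
    by_cases hex : q = 0 ∧ 0 ≤ c + 1
    · obtain ⟨rfl, hc0⟩ := hex
      obtain ⟨j, hj⟩ := Int.eq_ofNat_of_zero_le hc0
      have := D.lift j (hj ▸ hnext)
      rwa [← hj, add_sub_cancel_right] at this
    · rw [show c = c + 1 - 1 by ring, ← D.cl_zero]
      exact D.e_up hex (by omega) (by rw [D.cl_zero]; exact hnext)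

/-- Higher cohomology does not see the exceptional divisors. -/
theorem Data.cvan_two (d : Fin s → ℕ) (hq : 2 ≤ q) (hc : q = n + 1 → -((n : ℤ) + 1) ≤ c)
    (hq' : q ≤ n + 1 ∨ -((n : ℤ) + 1) ≤ c) : CVan q (D.cl c (nexp d)) := by
  obtain ⟨q, rfl⟩ : ∃ q', q = q' + 1 := ⟨q - 1, by omega⟩
  refine nat_induction (P := fun d => CVan (q + 1) (D.cl c (nexp d))) ?_ (fun d t ih => ?_) d
  · have := D.cvan_pow hn (q := q + 1) (by omega) hc hq'
    rw [← D.cl_zero] at this
    rw [nexp_zero]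
    exact this
  · show CVan (q + 1) (D.cl c (nexp (d + Pi.single t 1)))
    rw [nexp_add_single]
    exact D.ι_up t (by omega) (by simp only [nexp]; omega) ih

/-- No sections for negative degree. -/
theorem Data.cvan_zero (d : Fin s → ℕ) (hc : c < 0) : CVan 0 (D.cl c (nexp d)) := by
  refine nat_induction (P := fun d => CVan 0 (D.cl c (nexp d))) ?_ (fun d t ih => ?_) d
  · have := D.cvan_pow_zero hn hc
    rw [← D.cl_zero] at this
    rw [nexp_zero]
    exact this
  · show CVan 0 (D.cl c (nexp (d + Pi.single t 1)))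
    rw [nexp_add_single]
    exact D.ι_up_zero t ih

end Groth.Agent.H02CA.BlowPts
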