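import Groth.Agent.H02CA.VBPn.Hyper
import Groth.Agent.H28Vert.ExcNum
import Groth.Agent.H13CI.ExcSmooth

/-!
# The restriction sequence of an invertible module to a closed subscheme
-/

set_option autoImplicit false
set_option linter.style.haveILetI false
set_option maxHeartbeats 1600000
universe u

open CategoryTheory CategoryTheory.Limits AlgebraicGeometry TopologicalSpace Opposite
open Groth.Agent

namespace Groth.Agent.H02CA.BlowPts

attribute [local instance 10000] H10Coh.hasSheafifyAb H10Coh.hasWeakSheafifyAb H10Coh.hasExtAb H10Coh.enoughInjAb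

open H22Alg

/-- `0 → N ⊗ I → N → e_* e^* N → 0` for the ideal of a closed immersion. -/
theorem exists_divSeq {X Z : Scheme.{u}} [IsLocallyNoetherian X] [IsLocallyNoetherian Z] (e : Z ⟶ X)
    [IsClosedImmersion e] {I : X.IdealSheafData} (hI : e.ker = I) {N : X.Modules} (hN : PicF.IsInvertible N)
    {N' : Z.Modules} (eN : (Scheme.Modules.pullback e).obj N ≅ N') :
    ∃ S : ShortComplex X.Modules, S.ShortExact ∧ Nonempty (S.X₁ ≅ CohB1.tensorMod N (ClSub.idealMod I)) ∧
      Nonempty (S.X₂ ≅ N) ∧
      ∀ q : ℕ, (Subsingleton (Coh.HH Z N' q) → Subsingleton (Coh.HH X S.X₃ q)) := by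
  obtain ⟨j, hj⟩ := H13CI.ExcSmooth.exists_iso_of_ker_eq I.subschemeι e (by
    rw [hI, Scheme.IdealSheafData.ker_subschemeι])
  haveI : IsLocallyNoetherian I.subscheme := isLocallyNoetherian_of_isOpenImmersion j.hom
  have hF : FlatMod.IsFinLocFree N := H28Pinch.isFinLocFree_of_isInvertible hN
  haveI : DCoh.HasSheafHom N := H10Coh.SheafHom.hasSheafHom N
  haveI := H17.PnExt.preservesMonomorphisms_tensor hF
  haveI := H10Coh.epi_toSubscheme I
  let T := (DCoh.tensorBi (X := X)).obj N
  haveI : Mono (ClSub.idealModι I) := inferInstanceAs (Mono (kernel.ι _))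
  haveI : PreservesColimit (parallelPair (ClSub.idealModι I) 0) T :=
    haveI := preservesColimitsOfSize_shrink.{0, u, 0, u} T
    inferInstance
  have hS0 : (ShortComplex.mk (ClSub.idealModι I) (ClSub.toSubscheme I) (kernel.condition _)).ShortExact :=
    { exact := ShortComplex.exact_kernel _ }
  have hT := CokernelCofork.mapIsColimit _ hS0.gIsCokernel T
  haveI : Mono (T.map (ClSub.idealModι I)) := Functor.map_mono _ _
  let W := (ShortComplex.mk (ClSub.idealModι I) (ClSub.toSubscheme I) (kernel.condition _)).map T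
  have hW : W.ShortExact :=
    { exact := ShortComplex.exact_of_g_is_cokernel _ hT
      mono_f := inferInstanceAs (Mono (T.map (ClSub.idealModι I)))
      epi_g := Cofork.IsColimit.epi hT }
  refine ⟨W, hW, ⟨Iso.refl _⟩, ⟨SecTwist.unitorR N⟩, fun q hq => ?_⟩
  haveI : (Coh.structureModule I.subscheme).IsQuasicoherent := H10Coh.isQuasicoherent_unit
  obtain ⟨t⟩ := H10Coh.Tw.nonempty_push_tensor_iso I.subschemeι (Coh.structureModule I.subscheme) hN
  let Q := CohB1.tensorMod (Coh.structureModule I.subscheme) ((Scheme.Modules.pullback I.subschemeι).obj N)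
  refine H10Coh.subsingleton_HH_of_iso (t.symm ≪≫ H10Coh.Tw.commIso _ N) q ?_
  let eQ : (Scheme.Modules.pullback I.subschemeι).obj N ≅ Q :=
    (SecTwist.unitorR _).symm ≪≫ H10Coh.Tw.commIso _ _
  haveI hNq : ((Scheme.Modules.pullback I.subschemeι).obj N).IsQuasicoherent :=
    (H10Coh.Tw.isCoh_of_vb (H28Pinch.isFinLocFree_of_isInvertible (H11Ample.isInvertible_pullback I.subschemeι hN))).1
  haveI hQ : Q.IsQuasicoherent := (SheafOfModules.isQuasicoherent I.subscheme.ringCatSheaf).prop_of_iso eQ hNq
  have hsub : Subsingleton (Coh.HH I.subscheme Q q) := by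
    refine H10Coh.subsingleton_HH_of_iso eQ q ?_
    haveI : ((Scheme.Modules.pullback e).obj N).IsQuasicoherent :=
      (H10Coh.Tw.isCoh_of_vb (H28Pinch.isFinLocFree_of_isInvertible (H11Ample.isInvertible_pullback e hN))).1
    let e' : (Scheme.Modules.pullback j.hom).obj ((Scheme.Modules.pullback e).obj N) ≅
        (Scheme.Modules.pullback I.subschemeι).obj N :=
      (Scheme.Modules.pullbackComp j.hom e).app N ≪≫ (Scheme.Modules.pullbackCongr hj).app N
    refine H28Vert.subsingleton_HH_of_pullback_iso j.symm _ q ?_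
    refine H10Coh.subsingleton_HH_of_iso ?_ q hq
    exact eN.symm ≪≫ ((Scheme.Modules.pullbackId Z).app _).symm ≪≫
      (Scheme.Modules.pullbackCongr j.inv_hom_id.symm).app _ ≪≫
      ((Scheme.Modules.pullbackComp j.inv j.hom).app _).symm ≪≫ (Scheme.Modules.pullback j.inv).mapIso e'
  rw [← CMField.van_iff] at hsub ⊢
  exact (H10Coh.affineLerayEquiv I.subschemeι Q q ⊤).toEquiv.subsingleton_congr.2 hsub

end Groth.Agent.H02CA.BlowPts
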