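import Groth.Agent.H02CA.BlowPts.PnIso
import Groth.Agent.H28Contr.ExcDivisor
import Groth.Agent.H13CI.BlowQR

/-!
# The exceptional divisor of the blow-up of a rational point cut out by a quasi-regular sequence
-/

set_option autoImplicit false
set_option linter.style.haveILetI false
set_option backward.isDefEq.respectTransparency.types false
set_option maxHeartbeats 1600000
universe u

open CategoryTheory CategoryTheory.Limits AlgebraicGeometry Opposite TopologicalSpace
open Groth.Agent Groth.Agent.H11Tilde Groth.Agent.H11Ample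
open Groth.Agent.H26Blow Groth.Agent.H13CI
open Groth.Agent.H28Contr (consts)

namespace Groth.Agent.H02CA.BlowPts

variable {A : Type u} [CommRing A] {n : ℕ} (f : Fin (n + 1) → A) (m : Ideal A)
  (hI : Ideal.span (Set.range f) = m) {Y : Scheme.{u}} {b : Y ⟶ Spec (CommRingCat.of A)}

local notation "Ee" => BlowUp.exceptional b (centre m)

/-- The charts of the blow-up given by the generators. -/
structure Charts (b : Y ⟶ Spec (CommRingCat.of A)) where
  U : Fin (n + 1) → Y.Opens
  aff : ∀ i, IsAffineOpen (U i)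
  cov : ∀ x, ∃ i, x ∈ U i
  t : ∀ i, Fin (n + 1) → Γ(Y, U i)
  rel : ∀ i j, t i j * consts b (U i) (f i) = consts b (U i) (f j)
  inter : ∀ i j, Y.basicOpen (t i j) = U i ⊓ U j
  reg : ∀ i, consts b (U i) (f i) ∈ nonZeroDivisors Γ(Y, U i)
  ideal_eq : ∀ i, (BlowUp.exceptional b (centre m)).ideal ⟨U i, aff i⟩ = Ideal.span {consts b (U i) (f i)}
  surj : ∀ i, Function.Surjective (MvPolynomial.eval₂Hom (consts b (U i))
    fun j : {j : Fin (n + 1) // j ≠ i} => t i j.1)
  inj : CAlgX.IsQuasiRegular f → ∀ i (p : MvPolynomial {j : Fin (n + 1) // j ≠ i} A),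
    MvPolynomial.eval₂Hom (consts b (U i)) (fun j => t i j.1) p ∈ Ideal.span {consts b (U i) (f i)} →
    ∀ d, p.coeff d ∈ m

include hI in
theorem exists_charts (hb : BlowUp.IsBlowUp b (centre m)) : Nonempty (Charts f m b) := by
  obtain ⟨e, he⟩ := exists_iso_of_isBlowUp (isBlowUp_π m) hb
  let d : Fin (n + 1) → m := fun i => BlowQR.gen f m hI i
  let k : ∀ a : m, Spec (CommRingCat.of (Alg m a)) ⟶ Y := fun a => H26Blow.j m a ≫ e.hom
  have hk : ∀ a, k a ≫ b = Spec.map (CommRingCat.ofHom (algebraMap A (Alg m a))) := fun a => by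
    simp only [k, Category.assoc, he]
    exact j_π m a
  have hover : ∀ a a' p, k a p ∈ Set.range (k a') ↔ p ∈ PrimeSpectrum.basicOpen (R := Alg m a) (frac m a a') := by
    intro a a' p
    rw [← mem_basicOpen_j, ← opensRange_j, Scheme.Hom.comp_apply]
    constructor
    · rintro ⟨q, hq⟩
      exact ⟨q, e.hom.homeomorph.injective hq⟩
    · rintro ⟨q, hq⟩
      exact ⟨q, by rw [Scheme.Hom.comp_apply, hq]⟩
  let E : ∀ a : m, Γ(Y, k a ''ᵁ ⊤) ≅ CommRingCat.of (Alg m a) := fun a => (k a).appIso ⊤ ≪≫ Scheme.ΓSpecIso _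
  have hE : ∀ a x, (E a).hom (consts b (k a ''ᵁ ⊤) x) = algebraMap A (Alg m a) x := by
    intro a x
    have key : b.appTop ≫ Y.presheaf.map (homOfLE (le_top : k a ''ᵁ ⊤ ≤ ⊤)).op ≫ (E a).hom =
        (Scheme.ΓSpecIso (CommRingCat.of A)).hom ≫ CommRingCat.ofHom (algebraMap A (Alg m a)) := by
      rw [← Scheme.ΓSpecIso_naturality, ← hk a]
      simp only [E, Iso.trans_hom, Scheme.Hom.appIso_hom']
      rw [← Category.assoc (Y.presheaf.map _), Scheme.Hom.map_appLE, Scheme.Hom.comp_appTop, Category.assoc]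
      simp [Scheme.Hom.appLE]
    have h := congr($key ((Scheme.ΓSpecIso (CommRingCat.of A)).inv x))
    rwa [CommRingCat.comp_apply, CommRingCat.comp_apply, CommRingCat.comp_apply, Iso.inv_hom_id_apply] at h
  let tt : ∀ i, Fin (n + 1) → Γ(Y, k (d i) ''ᵁ ⊤) := fun i j => (E (d i)).inv (frac m (d i) (d j))
  have hinj : ∀ a : m, Function.Injective (E a).hom := fun a => (ConcreteCategory.bijective_of_isIso _).1
  have heval : ∀ i (p : MvPolynomial {j : Fin (n + 1) // j ≠ i} A),
      (E (d i)).hom (MvPolynomial.eval₂Hom (consts b _) (fun j => tt i j.1) p) = BlowQR.pres f m hI i p := by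
    intro i p
    suffices h : (E (d i)).hom.hom.comp (MvPolynomial.eval₂Hom (consts b _) (fun j => tt i j.1)) =
        (BlowQR.pres f m hI i).toRingHom from RingHom.congr_fun h p
    refine MvPolynomial.ringHom_ext (fun r => ?_) (fun j => ?_)
    · rw [RingHom.comp_apply, MvPolynomial.eval₂Hom_C, AlgHom.toRingHom_eq_coe, RingHom.coe_coe, BlowQR.pres,
        MvPolynomial.aeval_C]
      exact hE (d i) r
    · rw [RingHom.comp_apply, MvPolynomial.eval₂Hom_X', AlgHom.toRingHom_eq_coe, RingHom.coe_coe, BlowQR.pres,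
        MvPolynomial.aeval_X]
      exact Iso.inv_hom_id_apply (E (d i)) _
  refine ⟨⟨fun i => k (d i) ''ᵁ ⊤, fun i => (isAffineOpen_top _).image_of_isOpenImmersion _, fun x => ?_, tt,
    fun i j => ?_, fun i j => ?_, fun i => ?_, fun i => ?_, fun i z => ?_, fun hq i p hp c => ?_⟩⟩
  · obtain ⟨w, rfl⟩ := e.hom.homeomorph.surjective x
    obtain ⟨a, ha⟩ := Opens.mem_iSup.1 ((iSup_basicOpen m).ge (Set.mem_univ w))
    rw [← opensRange_j] at ha
    obtain ⟨p, rfl⟩ := ha
    by_contra hne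
    push Not at hne
    have hmem : ∀ i, frac m a (d i) ∈ p.asIdeal := fun i => by
      by_contra hp
      obtain ⟨q, hq⟩ := (hover a (d i) p).2 hp
      exact hne i ⟨q, trivial, hq⟩
    obtain ⟨c, hc⟩ := Ideal.mem_span_range_iff_exists_fun.1 (hI.ge a.2)
    refine p.isPrime.ne_top ((Ideal.eq_top_iff_one _).2 ?_)
    have hone : frac m a a = 1 :=
      (mul_cancel_right_mem_nonZeroDivisors (algebraMap_mem_nonZeroDivisors _ a)).mp
        ((frac_spec _ a a).trans (one_mul _).symm)
    have hsum : frac m a a = ∑ i, algebraMap A _ (c i) * frac m a (d i) := by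
      refine (mul_cancel_right_mem_nonZeroDivisors (algebraMap_mem_nonZeroDivisors m a)).mp ?_
      rw [frac_spec, Finset.sum_mul]
      refine (congrArg (algebraMap A (Alg m a)) hc.symm).trans ?_
      rw [map_sum]
      refine Finset.sum_congr rfl fun i _ => ?_
      rw [map_mul, mul_assoc, frac_spec]
    rw [← hone, hsum]
    exact Ideal.sum_mem _ fun i _ => Ideal.mul_mem_left _ _ (hmem i)
  · refine hinj (d i) ?_
    rw [map_mul, hE, hE]
    show (E (d i)).hom ((E (d i)).inv _) * _ = _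
    rw [Iso.inv_hom_id_apply]
    exact frac_spec m (d i) (d j)
  · have h1 : Y.basicOpen (tt i j) = k (d i) ''ᵁ (PrimeSpectrum.basicOpen (frac m (d i) (d j))) := by
      simp only [tt, E, Iso.trans_inv]
      rw [ConcreteCategory.comp_apply]
      rw [← Scheme.image_basicOpen, basicOpen_eq_of_affine]
    rw [h1]
    ext w
    constructor
    · rintro ⟨q, hq, rfl⟩
      exact ⟨⟨q, trivial, rfl⟩, by obtain ⟨r, hr⟩ := (hover _ _ q).2 hq; exact ⟨r, trivial, hr⟩⟩
    · rintro ⟨⟨q, -, rfl⟩, ⟨r, -, hr⟩⟩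
      exact ⟨q, (hover _ _ q).1 ⟨r, hr⟩, rfl⟩
  · refine mem_nonZeroDivisors_iff_right.2 fun z hz => hinj (d i) ?_
    have h1 := congrArg (E (d i)).hom hz
    rw [map_mul, hE, map_zero] at h1
    rw [map_zero]
    exact mem_nonZeroDivisors_iff_right.1 (algebraMap_mem_nonZeroDivisors m (d i)) _ h1
  · rw [H29Blow.ideal_comap (centre m) b ⟨⊤, isAffineOpen_top _⟩ _ le_top, ideal_centre_top, Ideal.map_map]
    have hφ : (b.appLE ⊤ (k (d i) ''ᵁ ⊤) le_top).hom.comp (Scheme.ΓSpecIso (CommRingCat.of A)).inv.hom =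
        consts b (k (d i) ''ᵁ ⊤) := rfl
    rw [hφ]
    refine le_antisymm (Ideal.map_le_iff_le_comap.2 fun x hx => ?_) ?_
    · rw [Ideal.mem_comap, Ideal.mem_span_singleton]
      refine ⟨(E (d i)).inv (frac m (d i) ⟨x, hx⟩), hinj (d i) ?_⟩
      rw [map_mul, hE, hE, Iso.inv_hom_id_apply, mul_comm]
      exact (frac_spec m (d i) ⟨x, hx⟩).symm
    · rw [Ideal.span_le, Set.singleton_subset_iff]
      exact Ideal.mem_map_of_mem _ (d i).2
  · obtain ⟨p, hp⟩ := BlowQR.pres_surjective f m hI i ((E (d i)).hom z)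
    exact ⟨p, hinj (d i) ((heval i p).trans hp)⟩
  · refine BlowQR.coeff_mem hq p ?_ c (hI := hI)
    obtain ⟨z, hz⟩ := Ideal.mem_span_singleton'.1 hp
    rw [← heval, ← hz, map_mul, hE]
    exact Ideal.mul_mem_left _ _ (Ideal.mem_span_singleton_self _)

include hI in
theorem exists_sections (hb : BlowUp.IsBlowUp b (centre m)) :
    PicF.IsInvertible (ClSub.idealMod Ee) ∧
    ∃ (C : Charts f m b) (v : Fin (n + 1) → Γ(ClSub.idealMod Ee, ⊤)),
      (∀ i, gen (ClSub.idealMod Ee) (v i) = C.U i) ∧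
      ∀ i j, (ClSub.idealMod Ee).presheaf.map (homOfLE (le_top : C.U i ≤ ⊤)).op (v j) =
        C.t i j • (ClSub.idealMod Ee).presheaf.map (homOfLE (le_top : C.U i ≤ ⊤)).op (v i) := by
  obtain ⟨C⟩ := exists_charts f m hI hb
  have hfm : ∀ j, f j ∈ m := fun j => hI ▸ Ideal.subset_span ⟨j, rfl⟩
  haveI : IsProper b := H26Blow.isProper_of_isBlowUp hb fun _ =>
    ⟨⟨⊤, isAffineOpen_top _⟩, trivial, by
      rw [ideal_centre_top, ← hI]
      exact Ideal.FG.map (Submodule.fg_span (Set.finite_range f)) _⟩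
  have hglob : ∀ j, ∃ v : Γ(ClSub.idealMod Ee, ⊤), OmegaSh.idealSect Ee ⊤ v = ProjUP.toGlobal b (f j) := by
    intro j
    refine H29Blow.exists_kernelι_app_eq (ClSub.toSubscheme Ee) ⊤ _ ?_
    have h : centre m ≤ (Ee).map b := Scheme.IdealSheafData.le_map_iff_comap_le.2 le_rfl
    have h1 := h ⟨⊤, isAffineOpen_top _⟩ (show (Scheme.ΓSpecIso (CommRingCat.of A)).inv (f j) ∈ _ by
      rw [ideal_centre_top]
      exact Ideal.mem_map_of_mem _ (hfm j))
    rw [Scheme.IdealSheafData.map, Scheme.Hom.ker_apply, RingHom.mem_ker] at h1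
    exact h1
  choose v hv using hglob
  have hvi : ∀ i j, OmegaSh.idealSect Ee (C.U i)
      ((ClSub.idealMod Ee).presheaf.map (homOfLE (le_top : C.U i ≤ ⊤)).op (v j)) = consts b (C.U i) (f j) :=
    fun i j => by rw [H29Blow.idealSect_res, hv]; rfl
  have hgen : ∀ i, IsGen (ClSub.idealMod Ee) ((ClSub.idealMod Ee).presheaf.map (homOfLE (le_top : C.U i ≤ ⊤)).op (v i)) :=
    fun i => H28Contr.isGen_idealSect _ hb.1 (C.aff i) (C.reg i) (C.ideal_eq i) _ (hvi i i)
  have hrat : ∀ i j, (ClSub.idealMod Ee).presheaf.map (homOfLE (le_top : C.U i ≤ ⊤)).op (v j) =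
      C.t i j • (ClSub.idealMod Ee).presheaf.map (homOfLE (le_top : C.U i ≤ ⊤)).op (v i) := fun i j =>
    H29Blow.idealSect_injective _ _ (by rw [H29Blow.idealSect_smul, hvi, hvi, C.rel])
  refine ⟨H29Blow.isInvertible_of_isEffCartierIdeal _ hb.1, C, v, fun i => ?_, hrat⟩
  refine le_antisymm (fun x hx => ?_) (fun x hx => mem_gen_of_isGen (hgen i) hx)
  obtain ⟨j, hj⟩ := C.cov x
  have h := gen_inf_eq_basicOpen (hgen j) (v i) (C.t j i) (hrat j i)
  have hx' : x ∈ gen (ClSub.idealMod Ee) (v i) ⊓ C.U j := ⟨hx, hj⟩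
  rw [h, C.inter] at hx'
  exact hx'.2

include hI in
/-- The exceptional divisor is a projective space over the field, with its conormal module `O(1)`. -/
theorem exists_exceptional_affine {k : Type u} [Field k] (φ : k →+* A) (hq : CAlgX.IsQuasiRegular f)
    (hφ : Function.Bijective ((Ideal.Quotient.mk m).comp φ)) (hb : BlowUp.IsBlowUp b (centre m)) :
    ∃ ι : CohB1.ProjSpace n k ⟶ Y, IsClosedImmersion ι ∧ ι.ker = Ee ∧
      ι ≫ b ≫ Spec.map (CommRingCat.ofHom φ) = CohB1.ProjSpace.toSpec n k ∧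
      Nonempty ((Scheme.Modules.pullback ι).obj (ClSub.idealMod Ee) ≅ Twist.twistProjSpace n k 1) := by
  obtain ⟨hL, C, v, hgen, hrat⟩ := exists_sections f m hI hb
  let ι := (Ee).subschemeι
  let q : (Ee).subscheme ⟶ Spec (CommRingCat.of k) := ι ≫ b ≫ Spec.map (CommRingCat.ofHom φ)
  have htg : ∀ x, ProjUP.toGlobal q x = ι.appTop (ProjUP.toGlobal b (φ x)) := by
    intro x
    show q.appTop ((Scheme.ΓSpecIso _).inv x) = ι.appTop (b.appTop ((Scheme.ΓSpecIso _).inv (φ x)))
    simp only [q, Scheme.Hom.comp_appTop, CommRingCat.comp_apply]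
    have hn := congr($(Scheme.ΓSpecIso_inv_naturality (CommRingCat.ofHom φ)) x)
    exact congrArg (fun w => ι.appTop (b.appTop w)) hn.symm
  have hcst : ∀ (U : Y.Opens) x, consts q (ι ⁻¹ᵁ U) x = ι.app U (consts b U (φ x)) := by
    intro U x
    show (Ee).subscheme.presheaf.map _ (ProjUP.toGlobal q x) = _
    rw [htg]
    show (ι.appTop ≫ (Ee).subscheme.presheaf.map _) (ProjUP.toGlobal b (φ x)) = _
    exact congr($((Scheme.Hom.naturality ι (homOfLE (le_top : U ≤ ⊤)).op).symm) (ProjUP.toGlobal b (φ x)))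
  let L := (Scheme.Modules.pullback ι).obj (ClSub.idealMod Ee)
  have hL' : PicF.IsInvertible L := H11Ample.isInvertible_pullback ι hL
  let w : Fin (n + 1) → Γ(L, ⊤) := fun i => pullTop ι (v i)
  have hgw : ∀ i, gen L (w i) = ι ⁻¹ᵁ C.U i := fun i => by
    have := gen_smul_pullSect ι hL (v i) (isUnit_one (M := Γ((Ee).subscheme, ⊤)))
    rw [one_smul, hgen] at this
    exact this
  have key : ∀ i (U : (Ee).subscheme.Opens) (_ : U = ι ⁻¹ᵁ C.U i), IsAffineOpen U ∧
      ∃ c : {j : Fin (n + 1) // j ≠ i} → Γ((Ee).subscheme, U),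
      (∀ j, L.presheaf.map (homOfLE (le_top : U ≤ ⊤)).op (w (Subtype.val j)) =
        c j • L.presheaf.map (homOfLE (le_top : U ≤ ⊤)).op (w i)) ∧
      Function.Bijective (MvPolynomial.eval₂Hom (consts q U) c) := by
    rintro i _ rfl
    refine ⟨(C.aff i).preimage ι, fun j => ι.app (C.U i) (C.t i j.1), fun j => ?_, ?_⟩
    · have e : ∀ l, L.presheaf.map (homOfLE (le_top : ι ⁻¹ᵁ C.U i ≤ ⊤)).op (w l) = OmegaSh.pullSect ι _ (C.U i)
          ((ClSub.idealMod Ee).presheaf.map (homOfLE (le_top : C.U i ≤ ⊤)).op (v l)) := fun l =>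
        pullTop_res ι (v l) (C.U i)
      rw [e, e, hrat, OmegaSh.pullSect_smul]
    · let ev := MvPolynomial.eval₂Hom (consts b (C.U i)) fun j : {j : Fin (n + 1) // j ≠ i} => C.t i j.1
      let evk := MvPolynomial.eval₂Hom (consts q (ι ⁻¹ᵁ C.U i))
        fun j : {j : Fin (n + 1) // j ≠ i} => ι.app (C.U i) (C.t i j.1)
      have hev : ∀ p : MvPolynomial {j : Fin (n + 1) // j ≠ i} k,
          evk p = ι.app (C.U i) (ev (MvPolynomial.map φ p)) := by
        intro p
        suffices h : evk = ((ι.app (C.U i)).hom.comp ev).comp (MvPolynomial.map φ) from RingHom.congr_fun h p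
        refine MvPolynomial.ringHom_ext (fun r => ?_) (fun j => ?_)
        · simp only [evk, ev, RingHom.comp_apply, MvPolynomial.map_C, MvPolynomial.eval₂Hom_C]
          exact hcst (C.U i) r
        · simp [evk, ev]
      have hker : ∀ z, ι.app (C.U i) z = 0 ↔ z ∈ Ideal.span {consts b (C.U i) (f i)} := fun z => by
        rw [← C.ideal_eq i, ← (Ee).ker_subschemeι_app ⟨C.U i, C.aff i⟩, RingHom.mem_ker]
      constructor
      · refine (injective_iff_map_eq_zero _).2 fun p hp => ?_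
        have h0 := C.inj hq i (MvPolynomial.map φ p) ((hker _).1 ((hev p).symm.trans hp))
        ext d
        rw [MvPolynomial.coeff_zero]
        refine hφ.1 ?_
        rw [map_zero, RingHom.comp_apply, ← MvPolynomial.coeff_map]
        exact Ideal.Quotient.eq_zero_iff_mem.2 (h0 d)
      · intro z
        obtain ⟨z, rfl⟩ := ι.app_surjective _ (C.aff i) z
        obtain ⟨P, rfl⟩ := C.surj i z
        obtain ⟨p, hp⟩ := MvPolynomial.map_surjective _ hφ.2 (MvPolynomial.map (Ideal.Quotient.mk m) P)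
        refine ⟨p, (hev p).trans ?_⟩
        rw [← sub_eq_zero, ← map_sub, hker, ← map_sub]
        set Q := MvPolynomial.map φ p - P
        have hQ : ∀ d, Q.coeff d ∈ m := fun d => by
          rw [← Ideal.Quotient.eq_zero_iff_mem]
          simp only [Q, MvPolynomial.coeff_sub, map_sub, ← MvPolynomial.coeff_map, MvPolynomial.map_map]
          rw [hp, sub_self]
        rw [← C.ideal_eq i]
        show ev Q ∈ _
        rw [Q.as_sum, map_sum]
        refine Ideal.sum_mem _ fun d _ => ?_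
        rw [MvPolynomial.monomial_eq, map_mul]
        refine Ideal.mul_mem_right _ _ ?_
        show ev (MvPolynomial.C _) ∈ _
        rw [MvPolynomial.eval₂Hom_C, H29Blow.ideal_comap (centre m) b ⟨⊤, isAffineOpen_top _⟩ ⟨C.U i, C.aff i⟩ le_top,
          ideal_centre_top, Ideal.map_map]
        exact Ideal.mem_map_of_mem _ (hQ d)
  choose haff c hc hs using fun i => key i _ (hgw i)
  obtain ⟨r, _, hrq, ⟨τ⟩⟩ := exists_iso_Pn q hL' w (fun x => (C.cov (ι x)).imp fun i hi => (hgw i).ge hi) haff c hc hs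
  refine ⟨inv r ≫ ι, inferInstance, ?_, ?_, ?_⟩
  · rw [Scheme.Hom.ker_comp_of_isIso]
    exact Scheme.IdealSheafData.ker_subschemeι _
  · rw [Category.assoc, IsIso.inv_comp_eq]
    exact hrq.symm
  · exact ⟨((Scheme.Modules.pullbackComp (inv r) ι).app (ClSub.idealMod Ee)).symm ≪≫
      (Scheme.Modules.pullback (inv r)).mapIso τ.symm ≪≫
      (Scheme.Modules.pullbackComp (inv r) r).app _ ≪≫
      (Scheme.Modules.pullbackCongr (IsIso.inv_hom_id r)).app _ ≪≫ (Scheme.Modules.pullbackId _).app _⟩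

end Groth.Agent.H02CA.BlowPts
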