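import Groth.Agent.H02CA.BlowPts.GeomS
import Groth.Agent.H02CA.BlowPts.Core
import Groth.Agent.H26Blow.Proper
import Groth.Agent.H8YBlow.Exceptional
import Groth.Agent.H11Ample.RelComp
import Groth.Agent.H11Ample.Converse
import Groth.Agent.H11Strict.Admissible
import Groth.Agent.H28Vert.PicVert
import Groth.Agent.H10Coh.SerreVanishing2
import Groth.Agent.S2348

/-!
# The blow-up of projective space at finitely many points
-/

set_option autoImplicit false
set_option linter.style.haveILetI false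
set_option maxHeartbeats 1600000
universe u

open CategoryTheory CategoryTheory.Limits AlgebraicGeometry TopologicalSpace Opposite
open Groth.Agent

namespace Groth.Agent.H02CA.BlowPts

attribute [local instance] H28Vert.picLaw

variable {k : Type u} [Field k] {n : ℕ} {s : ℕ} (P : Fin s → CohB1.ProjSpace (n + 1) k)
  (hPc : ∀ t, IsClosed ({P t} : Set (CohB1.ProjSpace (n + 1) k))) (hZ : IsClosed (Set.range P))

/-- The ideal of one point. -/
noncomputable abbrev Ipt (t : Fin s) : (CohB1.ProjSpace (n + 1) k).IdealSheafData :=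
  Scheme.IdealSheafData.vanishingIdeal ⟨{P t}, hPc t⟩

/-- The ideal of all the points. -/
noncomputable abbrev IZ : (CohB1.ProjSpace (n + 1) k).IdealSheafData :=
  Scheme.IdealSheafData.vanishingIdeal ⟨Set.range P, hZ⟩

theorem support_IZ : ((IZ P hZ).support : Set (CohB1.ProjSpace (n + 1) k)) = Set.range P :=
  Scheme.IdealSheafData.coe_support_vanishingIdeal _

theorem isFiniteType (I : (CohB1.ProjSpace (n + 1) k).IdealSheafData) : BlowUp.IsFiniteTypeIdeal I := fun U => by
  haveI := H22Alg.CMHyper.noetherian k (n + 1)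
  haveI := IsLocallyNoetherian.component_noetherian U
  exact IsNoetherian.noetherian _

theorem IZ_ne_bot [Infinite k] : IZ P hZ ≠ ⊥ := fun h => by
  obtain ⟨a, p, hp, hav⟩ := exists_hyperplane_avoiding (k := k) (Set.finite_range P)
  obtain ⟨z⟩ : Nonempty (CohB1.ProjSpace n k) :=
    haveI := LeadPic.PnRel.isIntegral_projSpace (n := n) k
    inferInstance
  refine hav z ?_
  rw [← support_IZ P hZ, h, Scheme.IdealSheafData.support_bot]
  exact Set.mem_univ _

variable {P hPc hZ}

theorem ideal_eq_top_of_disjoint {X : Scheme.{u}} (Z : Closeds X) (V : X.affineOpens) (h : ∀ z ∈ V.1, z ∉ Z) :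
    (Scheme.IdealSheafData.vanishingIdeal Z).ideal V = ⊤ := by
  rw [Scheme.IdealSheafData.vanishingIdeal_ideal]
  have : V.2.fromSpec ⁻¹' (Z : Set X) = ∅ := Set.eq_empty_iff_forall_notMem.2 fun z hz =>
    h _ (by rw [← SetLike.mem_coe, ← V.2.range_fromSpec]; exact ⟨z, rfl⟩) hz
  exact (congrArg PrimeSpectrum.vanishingIdeal this).trans PrimeSpectrum.vanishingIdeal_empty

theorem ideal_prod_ideal {X : Scheme.{u}} {ι : Type*} [DecidableEq ι] (I : ι → X.IdealSheafData) (V : X.affineOpens)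
    (S : Finset ι) : (∏ i ∈ S, I i).ideal V = ∏ i ∈ S, (I i).ideal V := by
  induction S using Finset.induction with
  | empty =>
    simp only [Finset.prod_empty, Scheme.IdealSheafData.one_eq_top]
    exact Ideal.one_eq_top.symm
  | insert a S ha ih => rw [Finset.prod_insert ha, Finset.prod_insert ha, Scheme.IdealSheafData.ideal_mul, Pi.mul_apply, ih]

theorem IZ_eq_prod [IsAlgClosed k] (hP : Function.Injective P) : IZ P hZ = ∏ t, Ipt P hPc t := by
  classical
  refine H29Blow.ext_of_forall_exists fun x => ?_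
  by_cases hx : x ∈ Set.range P
  · obtain ⟨t, rfl⟩ := hx
    have hS' : IsClosed (Set.range P \ {P t}) :=
      (show Set.range P \ {P t} = ⋃ t' ∈ ({t}ᶜ : Set (Fin s)), {P t'} by
        ext z
        simp only [Set.mem_diff, Set.mem_range, Set.mem_singleton_iff, Set.mem_iUnion, Set.mem_compl_iff, exists_prop]
        constructor
        · rintro ⟨⟨t', rfl⟩, hne⟩
          exact ⟨t', fun e => hne (e ▸ rfl), rfl⟩
        · rintro ⟨t', hne, rfl⟩
          exact ⟨⟨t', rfl⟩, fun e => hne (hP e)⟩) ▸ (Set.toFinite _).isClosed_biUnion fun t' _ => hPc t'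
    obtain ⟨V, hV, f, φ, hpV, honly, -, hIS, -⟩ := exists_coord_nhd (hPc t) hZ ⟨t, rfl⟩ hS'
    refine ⟨⟨V, hV⟩, hpV, ?_⟩
    rw [ideal_prod_ideal, Finset.prod_eq_single t (fun t' _ ht => ?_) (fun h => absurd (Finset.mem_univ t) h)]
    · exact hIS
    · rw [Ideal.one_eq_top]
      exact ideal_eq_top_of_disjoint _ ⟨V, hV⟩ fun z hz hz' =>
        ht (hP ((show z = P t' from hz').symm.trans (honly z hz ⟨t', (show z = P t' from hz').symm⟩)))
  · obtain ⟨V, hV, hxV, hVS⟩ := exists_isAffineOpen_mem_and_subset (U := ⟨_, hZ.isOpen_compl⟩) (x := x) hx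
    refine ⟨⟨V, hV⟩, hxV, ?_⟩
    rw [ideal_prod_ideal, Finset.prod_eq_one fun t' _ => ?_, Ideal.one_eq_top]
    · exact ideal_eq_top_of_disjoint _ ⟨V, hV⟩ fun z hz hz' => hVS hz hz'
    · rw [Ideal.one_eq_top]
      exact ideal_eq_top_of_disjoint _ ⟨V, hV⟩ fun z hz hz' => hVS hz ⟨t', (show z = P t' from hz').symm⟩

variable {X : Scheme.{u}} {π : X ⟶ CohB1.ProjSpace (n + 1) k}

theorem isProper_blowUp {I : (CohB1.ProjSpace (n + 1) k).IdealSheafData} (hπ : BlowUp.IsBlowUp π I) : IsProper π :=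
  H26Blow.isProper_of_isBlowUp hπ fun x => by
    obtain ⟨U, hU, hxU, -⟩ := exists_isAffineOpen_mem_and_subset (Opens.mem_top x)
    exact ⟨⟨U, hU⟩, hxU, isFiniteType I ⟨U, hU⟩⟩

theorem isLocallyNoetherian_blowUp {I : (CohB1.ProjSpace (n + 1) k).IdealSheafData} (hπ : BlowUp.IsBlowUp π I) :
    IsLocallyNoetherian X := by
  haveI := isProper_blowUp hπ
  haveI := H22Alg.CMHyper.noetherian k (n + 1)
  exact LocallyOfFiniteType.isLocallyNoetherian π

variable [IsAlgClosed k] (hP : Function.Injective P) (hπ : BlowUp.IsBlowUp π (IZ P hZ))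

include hP in
theorem exists_exc (t : Fin s) (hπ : BlowUp.IsBlowUp π (IZ P hZ)) :
    BlowUp.IsEffCartierIdeal ((Ipt P hPc t).comap π) ∧
    ∃ (ι : CohB1.ProjSpace n k ⟶ X) (_ : IsClosedImmersion ι),
      ι.ker = (Ipt P hPc t).comap π ∧ ι ≫ π ≫ CohB1.ProjSpace.toSpec (n + 1) k = CohB1.ProjSpace.toSpec n k ∧
      (∀ z, π (ι z) = P t) ∧
      Nonempty ((Scheme.Modules.pullback ι).obj (ClSub.idealMod ((Ipt P hPc t).comap π)) ≅
        Twist.twistProjSpace n k 1) := by
  refine exists_exceptional (hPc t) hZ ⟨t, rfl⟩ ?_ hπ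
  have : Set.range P \ {P t} = ⋃ t' ∈ ({t}ᶜ : Set (Fin s)), {P t'} := by
    ext z
    simp only [Set.mem_diff, Set.mem_range, Set.mem_singleton_iff, Set.mem_iUnion, Set.mem_compl_iff, exists_prop]
    constructor
    · rintro ⟨⟨t', rfl⟩, hne⟩
      exact ⟨t', fun e => hne (e ▸ rfl), rfl⟩
    · rintro ⟨t', hne, rfl⟩
      exact ⟨⟨t', rfl⟩, fun e => hne (hP e)⟩
  rw [this]
  exact (Set.toFinite _).isClosed_biUnion fun t' _ => hPc t'

/-- The exceptional classes. -/
noncomputable def uu (hP : Function.Injective P) (hπ : BlowUp.IsBlowUp π (IZ P hZ)) (t : Fin s) : PicLoc.PicSet X :=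
  H28Vert.idealCls (exists_exc (hPc := hPc) hP t hπ).1

/-- The pull-back of `O(1)`. -/
noncomputable def hh (π : X ⟶ CohB1.ProjSpace (n + 1) k) : PicLoc.PicSet X := res π (O1 (n + 1) k)

theorem cls_exceptional (h : PicF.IsInvertible (ClSub.idealMod (BlowUp.exceptional π (IZ P hZ)))) :
    PicGrp.cls (ClSub.idealMod (BlowUp.exceptional π (IZ P hZ))) h = ∏ t, uu (hPc := hPc) hP hπ t := by
  classical
  have he : BlowUp.exceptional π (IZ P hZ) = ∏ t ∈ Finset.univ, (Ipt P hPc t).comap π ^ (fun _ : Fin s => 1) t := by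
    simp only [pow_one]
    rw [BlowUp.exceptional, IZ_eq_prod (hPc := hPc) hP, H11Strict.comap_prod]
  have := H28Vert.idealCls_prod (Y := X) Finset.univ _ (fun t => (exists_exc (hPc := hPc) hP t hπ).1) fun _ => 1
  simp only [pow_one] at this
  unfold uu
  rw [← this]
  exact cls_eq_of_iso _ _ ⟨eqToIso (congrArg ClSub.idealMod (by simpa using he))⟩

theorem notMem_support {Z : Scheme.{u}} (g : Z ⟶ X) (t : Fin s) (h : ∀ z, π (g z) ≠ P t) (z : Z) :
    g z ∉ ((Ipt P hPc t).comap π).support := fun hz => by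
  have hz' : g z ∈ (((Ipt P hPc t).comap π).support : Set X) := hz
  rw [Scheme.IdealSheafData.support_comap] at hz'
  have h2 : π (g z) ∈ ((Ipt P hPc t).support : Set _) := hz'
  rw [Scheme.IdealSheafData.coe_support_vanishingIdeal] at h2
  exact h z h2

include hP hπ in
theorem exists_amp : ∃ (C : ℕ) (D : ℕ), ∀ q, 0 < q →
    CVan q (hh π ^ (C : ℤ) * ∏ t, uu (hPc := hPc) hP hπ t ^ D) := by
  haveI := isProper_blowUp hπ
  haveI : IsProper (CohB1.ProjSpace.toSpec (n + 1) k) := inferInstance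
  have hK : RelAmple.IsRelAmple (CohB1.ProjSpace.toSpec (n + 1) k) (Twist.twistProjSpace (n + 1) k 1) :=
    H11Ample.isRelAmple_iff_isAmple_of_isAffine.2 (H11Ample.isAmple_twistProjSpace (n + 1) k)
  obtain ⟨n₀, -, hn₀⟩ := H11Ample.isRelAmple_comp_tensor (H8YBlow.isRelAmple_exceptional (isFiniteType _) hπ) hK
  have hA := H11Ample.isRelAmple_iff_isAmple_of_isAffine.1 (hn₀ n₀ le_rfl)
  have hO := H11Proj.isInvertible_structureModule (X := X)
  obtain ⟨k₀, hk₀⟩ := H10Coh.Tw.exists_vanishing_ample (π ≫ CohB1.ProjSpace.toSpec (n + 1) k) hA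
    (Coh.structureModule X) (H10Coh.Tw.isCoh_of_vb (H28Pinch.isFinLocFree_of_isInvertible hO))
  refine ⟨n₀ * k₀, k₀, fun q hq => ?_⟩
  have hL₀ := H29Blow.isInvertible_of_isEffCartierIdeal _ hπ.1
  have hO1 := (H10Coh.Stab.isTwistFamily_projSpace (n + 1) k).inv 1
  have hK' := H28Vert.isInvertible_tensorPow hO1 n₀
  have hA' := H11Ample.isInvertible_tensor hL₀ (PicLoc.isInvertible_pullback π hK')
  have hM := H28Vert.isInvertible_tensorPow hA' k₀
  have hcls : PicGrp.cls _ (H11Ample.isInvertible_tensor hO hM) =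
      hh π ^ ((n₀ * k₀ : ℕ) : ℤ) * ∏ t, uu (hPc := hPc) hP hπ t ^ k₀ := by
    rw [show PicGrp.cls _ (H11Ample.isInvertible_tensor hO hM) = PicGrp.cls _ hO * PicGrp.cls _ hM from
      Subtype.ext (PicGrp.cls_mul_cls_val hO hM).symm, (PicGrp.cls_eq_one_iff hO).2 ⟨Iso.refl _⟩, one_mul,
      H28Vert.cls_tensorPow hA',
      show PicGrp.cls _ hA' = PicGrp.cls _ hL₀ * PicGrp.cls _ (PicLoc.isInvertible_pullback π hK') from
        Subtype.ext (PicGrp.cls_mul_cls_val hL₀ _).symm,
      cls_exceptional hP hπ, ← res_cls π _ hK', H28Vert.cls_tensorPow hO1, map_pow, mul_pow, ← pow_mul,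
      ← Finset.prod_pow, zpow_natCast, mul_comm]
    rfl
  rw [← hcls, cvan_iff, ← H22Alg.CMField.van_iff]
  exact hk₀ k₀ le_rfl q hq

include hP hπ in
/-- The restriction data of the blow-up. -/
theorem exists_data : ∃ D : Data k n X s, D.h = hh π ∧ D.u = uu (hPc := hPc) hP hπ := by
  haveI := isProper_blowUp hπ
  haveI : IsIntegral (CohB1.ProjSpace (n + 1) k) := LeadPic.PnRel.isIntegral_projSpace (n := n + 1) k
  obtain ⟨hint, -, -⟩ := S2348.result _ (IZ_ne_bot P hZ) π hπ
  haveI := hint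
  obtain ⟨e, he, hei, hec, heh, heav, hek, j, hj, hji, hjc, hej⟩ := exists_e hπ (support_IZ P hZ ▸ Set.finite_range P)
  have hav : ∀ z t, π (e z) ≠ P t := fun z t h => heav z (by
    rw [← SetLike.mem_coe, support_IZ P hZ]; exact ⟨t, h.symm⟩)
  choose hEff ι hι hker hιk hιp hιO using fun t => exists_exc (hPc := hPc) hP t hπ
  haveI := he
  have hιi : ∀ t, PicF.IsInvertible (ClSub.idealMod (ι t).ker) := fun t =>
    (hker t).symm ▸ H29Blow.isInvertible_of_isEffCartierIdeal _ (hEff t)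
  haveI : Nonempty (CohB1.ProjSpace n k) :=
    haveI := LeadPic.PnRel.isIntegral_projSpace (n := n) k
    inferInstance
  have hI : ∀ t, PicF.IsInvertible (ClSub.idealMod ((Ipt P hPc t).comap π)) := fun t =>
    H29Blow.isInvertible_of_isEffCartierIdeal _ (hEff t)
  refine ⟨{
    h := hh π
    u := uu (hPc := hPc) hP hπ
    e := e
    e_closed := he
    e_inv := hei
    cls_e := hec
    res_e_h := heh
    res_e_u := fun t => res_eq_one e (hI t)
      (H28Vert.nonempty_pullback_idealMod e (hEff t) (notMem_support e t fun z => hav z t))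
    ι := ι
    ι_closed := hι
    ι_inv := hιi
    cls_ι := fun t => cls_eq_of_iso (hιi t) (hI t) ⟨eqToIso (congrArg ClSub.idealMod (hker t))⟩
    res_ι_h := fun t => (res_comp _ _ _).trans (by
      rw [O1]
      exact res_eq_one _ _ (nonempty_pullback_iso_of_range _ (P t) (hιp t) ((H10Coh.Stab.isTwistFamily_projSpace (n + 1) k).inv 1)))
    res_ι_u := fun t => (res_cls _ _ (hI t)).trans (cls_eq_of_iso (PicLoc.isInvertible_pullback (ι t) (hI t)) ((H10Coh.Stab.isTwistFamily_projSpace n k).inv 1) (hιO t))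
    res_ι_u' := fun t t' ht => res_eq_one (ι t) (hI t') (H28Vert.nonempty_pullback_idealMod (ι t) (hEff t')
      (notMem_support (ι t) t' fun z h => ht (hP (h.symm.trans (hιp t z)))))
    amp := exists_amp hP hπ
    h0neg := hec ▸ cvan_zero_idealMod (π ≫ CohB1.ProjSpace.toSpec (n + 1) k) e hei
    lift := fun c hc => cvan_one_lift π j hji hjc e hej hei hec c hc }, rfl, rfl⟩

end Groth.Agent.H02CA.BlowPts
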