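import Groth.Prelude.Def_CAlgX
import Mathlib.RingTheory.MvPolynomial.Ideal
import Mathlib.RingTheory.MvPolynomial.Homogeneous

/-!
# The variables of a polynomial ring are quasi-regular
-/

set_option autoImplicit false
universe u

open MvPolynomial

namespace Groth.Agent.H02CA.BlowPts

theorem isQuasiRegular_X (R : Type u) [CommRing R] (c : ℕ) :
    CAlgX.IsQuasiRegular (fun j : Fin c => (X j : MvPolynomial (Fin c) R)) := by
  intro m P hP hev d
  have hJ : Ideal.span (Set.range fun j : Fin c => (X j : MvPolynomial (Fin c) R)) = idealOfVars (Fin c) R := rfl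
  rw [hJ] at hev ⊢
  let J := idealOfVars (Fin c) R
  have hC : ∀ a : MvPolynomial (Fin c) R, a - C (constantCoeff a) ∈ J := fun a => by
    rw [← pow_one J, mem_pow_idealOfVars_iff']
    intro e he
    have : e.degree = 0 := by omega
    rw [Finsupp.degree_eq_zero_iff] at this
    subst this
    simp [constantCoeff_eq]
  let P₀ : MvPolynomial (Fin c) R := MvPolynomial.map constantCoeff P
  have hP₀ : P₀.IsHomogeneous m := hP.map _
  have hdiff : eval (fun j => X j) P - P₀ ∈ J ^ (m + 1) := by
    have h0 : P₀ = eval (fun j => (X j : MvPolynomial (Fin c) R)) (MvPolynomial.map C P₀) := by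
      rw [eval_map]
      exact (eval₂_eta P₀).symm
    conv => arg 2; arg 2; rw [h0]
    rw [← map_sub]
    set Q := P - MvPolynomial.map C P₀ with hQ
    have hQh : Q.IsHomogeneous m := hP.sub (hP₀.map _)
    have hQc : ∀ e, Q.coeff e ∈ J := fun e => by
      simp only [Q, P₀, coeff_sub, coeff_map]
      exact hC _
    rw [Q.as_sum, map_sum]
    refine Ideal.sum_mem _ fun e he => ?_
    rw [eval_monomial, pow_succ']
    refine Ideal.mul_mem_mul (hQc e) ?_
    have hprod : (e.prod fun j a => (X j : MvPolynomial (Fin c) R) ^ a) = monomial e 1 := by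
      rw [monomial_eq]; simp
    rw [hprod, mem_pow_idealOfVars_iff']
    intro e' he'
    rw [coeff_monomial, if_neg]
    rintro rfl
    have : e.degree = m := by
      have := hQh (mem_support_iff.1 he)
      rwa [Finsupp.degree_eq_weight_one]
    omega
  have hmem : P₀ ∈ J ^ (m + 1) := by
    have := (J ^ (m + 1)).sub_mem hev hdiff
    rwa [sub_sub_cancel] at this
  have hz : P₀ = 0 := by
    ext e
    rw [coeff_zero]
    by_contra hne
    have h1 : e.degree = m := by
      have := hP₀ hne
      rwa [Finsupp.degree_eq_weight_one]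
    exact hne ((mem_pow_idealOfVars_iff' _ _).1 hmem e (by omega))
  have hd : constantCoeff (P.coeff d) = 0 := by rw [← coeff_map]; exact (congrArg (coeff d) hz).trans (coeff_zero d)
  have := hC (P.coeff d)
  rwa [hd, map_zero, sub_zero] at this

theorem isQuasiRegular_map_equiv {R S : Type u} [CommRing R] [CommRing S] (e : R ≃+* S) {c : ℕ} (f : Fin c → R)
    (hf : CAlgX.IsQuasiRegular f) : CAlgX.IsQuasiRegular fun j => e (f j) := by
  intro m P hP hev d
  have hs : Ideal.span (Set.range fun j => e (f j)) = (Ideal.span (Set.range f)).map (e : R →+* S) := by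
    rw [Ideal.map_span, ← Set.range_comp]
    rfl
  rw [hs] at hev ⊢
  have hmem : ∀ (I : Ideal R) (z : S), z ∈ I.map (e : R →+* S) ↔ e.symm z ∈ I := fun I z => by
    constructor
    · intro hz
      obtain ⟨w, hw, rfl⟩ := (Ideal.mem_map_iff_of_surjective (e : R →+* S) e.surjective).1 hz
      simpa using hw
    · intro hz
      exact (e.apply_symm_apply z) ▸ Ideal.mem_map_of_mem (e : R →+* S) hz
  rw [← Ideal.map_pow, hmem] at hev
  rw [hmem]
  have := hf m (MvPolynomial.map (e.symm : S →+* R) P) (hP.map _) (by
    rw [eval_map]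
    convert hev using 1
    rw [← eval₂_id]
    refine Eq.trans ?_ (eval₂_comp_left (e.symm : S →+* R) (RingHom.id S) _ P).symm
    rw [RingHom.comp_id]
    congr 1
    funext j
    simp) d
  rwa [coeff_map] at this

end Groth.Agent.H02CA.BlowPts
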