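import Groth.Agent.H02CA.BlowPts.Exceptional
import Groth.Agent.H02CA.BlowPts.QuasiReg
import Groth.Agent.H13CI.ExcSmooth
import Groth.Agent.H29Slice.QuasiReg
import Groth.Agent.H12Pic.CurveFam.ComapIdeal
import Groth.Agent.H12Pic.OpenLine.Main
import Groth.Agent.H26ModPair.Coprod

/-!
# The exceptional divisors of the blow-up of projective space at finitely many points
-/

set_option autoImplicit false
set_option linter.style.haveILetI false
set_option backward.isDefEq.respectTransparency.types false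
set_option maxHeartbeats 1600000
universe u

open CategoryTheory CategoryTheory.Limits AlgebraicGeometry Opposite TopologicalSpace
open Groth.Agent Groth.Agent.H11Tilde Groth.Agent.H11Ample
open Groth.Agent.H26Blow (centre)

namespace Groth.Agent.H02CA.BlowPts

variable {k : Type u} [Field k] {n : ℕ}

/-- An invertible module pulled back along a map with one image point is trivial. -/
theorem nonempty_pullback_iso_of_range {Y X : Scheme.{u}} (g : Y ⟶ X) (x : X) (hg : ∀ y, g y = x)
    {L : X.Modules} (hL : PicF.IsInvertible L) :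
    Nonempty ((Scheme.Modules.pullback g).obj L ≅ Coh.structureModule Y) := by
  obtain ⟨W, e, hxW, he⟩ := exists_gen hL x
  have hle : (⊤ : Y.Opens) ≤ g ⁻¹ᵁ W := fun y _ => by
    show g y ∈ W
    rw [hg]
    exact hxW
  exact H12Pic.OpenLine.nonempty_iso_of_isGen_top _ _ ((H11Tilde.IsGen.pullSect g he).res hle)

theorem isEff_top {X : Scheme.{u}} : BlowUp.IsEffCartierIdeal (⊤ : X.IdealSheafData) := fun x => by
  obtain ⟨U, hU, hxU, -⟩ := exists_isAffineOpen_mem_and_subset (Opens.mem_top x)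
  refine ⟨⟨U, hU⟩, hxU, 1, one_mem _, ?_⟩
  rw [Ideal.span_singleton_one]
  rfl

/-- Around one of finitely many closed points: an affine chart with quasi-regular coordinates. -/
theorem exists_coord_nhd [IsAlgClosed k] {p : CohB1.ProjSpace (n + 1) k}
    (hp : IsClosed ({p} : Set (CohB1.ProjSpace (n + 1) k))) {S : Set (CohB1.ProjSpace (n + 1) k)} (hS : IsClosed S)
    (hpS : p ∈ S) (hS' : IsClosed (S \ {p})) :
    ∃ (V : (CohB1.ProjSpace (n + 1) k).Opens) (hV : IsAffineOpen V) (f : Fin (n + 1) → Γ(CohB1.ProjSpace (n + 1) k, V))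
      (φ : k →+* Γ(CohB1.ProjSpace (n + 1) k, V)),
      p ∈ V ∧ (∀ z ∈ V, z ∈ S → z = p) ∧
      Ideal.span (Set.range f) = (Scheme.IdealSheafData.vanishingIdeal ⟨{p}, hp⟩).ideal ⟨V, hV⟩ ∧
      (Scheme.IdealSheafData.vanishingIdeal ⟨S, hS⟩).ideal ⟨V, hV⟩ =
        (Scheme.IdealSheafData.vanishingIdeal ⟨{p}, hp⟩).ideal ⟨V, hV⟩ ∧
      CAlgX.IsQuasiRegular f ∧
      Function.Bijective ((Ideal.Quotient.mk
        ((Scheme.IdealSheafData.vanishingIdeal ⟨{p}, hp⟩).ideal ⟨V, hV⟩)).comp φ) ∧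
      hV.fromSpec ≫ CohB1.ProjSpace.toSpec (n + 1) k = Spec.map (CommRingCat.ofHom φ) := by
  classical
  let PP : Scheme.{u} := CohB1.ProjSpace (n + 1) k
  obtain ⟨i, hi⟩ := H11Ample.exists_mem_basicOpen_X (n := n + 1) (R := k) p
  have hU := H11Proj.SepPts.isAffineOpen_U (k := k) i
  let UU : PP.Opens := H11Proj.SepPts.U (k := k) i
  haveI hmax := H11Proj.SepPts.isMaximal_primeIdealOf (i := i) hi hp
  obtain ⟨α, hα, hspan⟩ := H11Proj.SepPts.exists_coords (hU.primeIdealOf ⟨p, hi⟩).asIdeal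
  have hone : ∀ (W : PP.Opens) (hW : IsAffineOpen W) (hpW : p ∈ W), (Scheme.IdealSheafData.vanishingIdeal
      ⟨{p}, hp⟩).ideal ⟨W, hW⟩ = (hW.primeIdealOf ⟨p, hpW⟩).asIdeal := by
    intro W hW hpW
    rw [Scheme.IdealSheafData.vanishingIdeal_ideal]
    have h : hW.fromSpec ⁻¹' ({p} : Set PP) = {hW.primeIdealOf ⟨p, hpW⟩} := by
      ext z
      constructor
      · intro hz
        exact hW.fromSpec.isOpenEmbedding.injective ((show hW.fromSpec z = p from hz).trans
          (hW.fromSpec_primeIdealOf ⟨p, hpW⟩).symm)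
      · rintro rfl
        exact hW.fromSpec_primeIdealOf ⟨p, hpW⟩
    show PrimeSpectrum.vanishingIdeal (hW.fromSpec ⁻¹' ({p} : Set PP)) = _
    exact (congrArg PrimeSpectrum.vanishingIdeal h).trans (PrimeSpectrum.vanishingIdeal_singleton _)
  obtain ⟨g, hgle, hpg⟩ := hU.exists_basicOpen_le (V := UU ⊓ ⟨(S \ {p})ᶜ, hS'.isOpen_compl⟩)
    ⟨p, hi, fun h => h.2 rfl⟩ hi
  have hV : IsAffineOpen (PP.basicOpen g) := hU.basicOpen g
  have hVU : PP.basicOpen g ≤ UU := PP.basicOpen_le g
  let res : Γ(PP, UU) →+* Γ(PP, PP.basicOpen g) := (PP.presheaf.map (homOfLE hVU).op).hom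
  let f₀ : Fin (n + 1) → Γ(PP, UU) := fun j =>
    H11Proj.SepPts.t i (i.succAbove j) - H11Proj.SepPts.κ i (α (i.succAbove j))
  have hspan₀ : Ideal.span (Set.range f₀) = (hU.primeIdealOf ⟨p, hi⟩).asIdeal := by
    refine le_antisymm (Ideal.span_le.2 ?_) ?_
    · rintro _ ⟨j, rfl⟩
      exact hα _
    · rw [hspan, Ideal.span_le]
      rintro _ ⟨j, rfl⟩
      rcases eq_or_ne j i with rfl | hj
      · have h0 : H11Proj.SepPts.t j j - H11Proj.SepPts.κ j (α j) = 0 := by
          by_contra hne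
          have hu : α j ≠ 1 := fun h => hne (by rw [H11Proj.SepPts.t_self, h, map_one, sub_self])
          refine hmax.ne_top (Ideal.eq_top_of_isUnit_mem _ (hα j) ?_)
          rw [H11Proj.SepPts.t_self, ← map_one (H11Proj.SepPts.κ (k := k) j), ← map_sub]
          exact (IsUnit.mk0 _ (sub_ne_zero.2 hu.symm)).map _
        show H11Proj.SepPts.t j j - H11Proj.SepPts.κ j (α j) ∈ Ideal.span (Set.range f₀)
        rw [h0]
        exact Ideal.zero_mem _
      · obtain ⟨l, rfl⟩ := Fin.exists_succAbove_eq hj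
        exact Ideal.subset_span ⟨l, rfl⟩
  have hγ : Function.Bijective (H11Proj.SepPts.γ (k := k) i) :=
    (ConcreteCategory.bijective_of_isIso
      (Proj.basicOpenIsoAway (CohB1.polyGrading (n + 1) k) _ (H11Proj.ProjSpace.X_mem (n + 1) k i) one_pos).hom).comp
      (H11Proj.ProjSpace.chartMap_bijective (n + 1) k i)
  let θ : MvPolynomial (Fin (n + 1)) k →+* Γ(PP, UU) :=
    (H11Proj.SepPts.γ i).comp (MvPolynomial.eval₂Hom MvPolynomial.C fun j =>
      MvPolynomial.X ⟨i.succAbove j, Fin.succAbove_ne i j⟩ - MvPolynomial.C (α (i.succAbove j)))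
  have hθ : Function.Bijective θ := by
    rw [RingHom.coe_comp]
    refine hγ.comp ?_
    let back : MvPolynomial {j : Fin (n + 2) // j ≠ i} k →+* MvPolynomial (Fin (n + 1)) k :=
      MvPolynomial.eval₂Hom MvPolynomial.C fun j =>
        MvPolynomial.X (Fin.exists_succAbove_eq j.2).choose + MvPolynomial.C (α j.1)
    set fw := MvPolynomial.eval₂Hom MvPolynomial.C fun j =>
      MvPolynomial.X (⟨i.succAbove j, Fin.succAbove_ne i j⟩ : {j : Fin (n + 2) // j ≠ i}) -
        MvPolynomial.C (α (i.succAbove j)) with hfw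
    have h1 : back.comp fw = RingHom.id _ := MvPolynomial.ringHom_ext (fun r => by simp [back, fw]) fun j => by
      have : (Fin.exists_succAbove_eq (Fin.succAbove_ne i j)).choose = j :=
        Fin.succAbove_right_injective (Fin.exists_succAbove_eq (Fin.succAbove_ne i j)).choose_spec
      simp [back, fw, this]
    have h2 : fw.comp back = RingHom.id _ := MvPolynomial.ringHom_ext (fun r => by simp [back, fw]) fun j => by
      have hsp := (Fin.exists_succAbove_eq j.2).choose_spec
      simp [back, fw, hsp]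
    have hl : Function.LeftInverse back fw := fun x => RingHom.congr_fun h1 x
    have hr : Function.LeftInverse fw back := fun x => RingHom.congr_fun h2 x
    exact ⟨hl.injective, hr.surjective⟩
  have hf₀ : CAlgX.IsQuasiRegular f₀ := by
    have := isQuasiRegular_map_equiv (RingEquiv.ofBijective θ hθ) _ (isQuasiRegular_X k (n + 1))
    refine (show (fun j => (RingEquiv.ofBijective θ hθ) (MvPolynomial.X j)) = f₀ from funext fun j => ?_) ▸ this
    show H11Proj.SepPts.γ i (MvPolynomial.eval₂Hom _ _ (MvPolynomial.X j)) = _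
    rw [MvPolynomial.eval₂Hom_X', map_sub, H11Proj.SepPts.γ_X, ← RingHom.comp_apply, ← H11Proj.SepPts.κ_eq]
  have hres : ∀ (I : PP.IdealSheafData), I.ideal ⟨PP.basicOpen g, hV⟩ = (I.ideal ⟨UU, hU⟩).map res := fun I =>
    (I.map_ideal (U := ⟨PP.basicOpen g, hV⟩) (V := ⟨UU, hU⟩) hVU).symm
  let φ : k →+* Γ(PP, PP.basicOpen g) := res.comp (H11Proj.SepPts.κ i)
  have hsp : Ideal.span (Set.range fun j => res (f₀ j)) =
      (Scheme.IdealSheafData.vanishingIdeal ⟨{p}, hp⟩).ideal ⟨PP.basicOpen g, hV⟩ := by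
    rw [hres, hone UU hU hi, ← hspan₀, Ideal.map_span, ← Set.range_comp]
    rfl
  refine ⟨PP.basicOpen g, hV, fun j => res (f₀ j), φ, hpg,
    fun z hz hzS => by_contra fun hne => (hgle hz).2 ⟨hzS, hne⟩, hsp, ?_, ?_, ?_, ?_⟩
  · rw [Scheme.IdealSheafData.vanishingIdeal_ideal, Scheme.IdealSheafData.vanishingIdeal_ideal]
    refine congrArg PrimeSpectrum.vanishingIdeal (Set.ext fun z => ?_)
    have hzV : hV.fromSpec z ∈ PP.basicOpen g := by
      rw [← SetLike.mem_coe, ← hV.range_fromSpec]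
      exact ⟨z, rfl⟩
    exact ⟨fun h => by_contra fun hne => (hgle hzV).2 ⟨h, hne⟩, fun h => show hV.fromSpec z ∈ S by rw [show hV.fromSpec z = p from h]; exact hpS⟩
  · haveI := hU.isLocalization_basicOpen g
    exact H29Slice.isQuasiRegular_localization (L := Γ(PP, PP.basicOpen g)) (Submonoid.powers g) hf₀
  · have hmV : ((Scheme.IdealSheafData.vanishingIdeal ⟨{p}, hp⟩).ideal ⟨PP.basicOpen g, hV⟩).IsMaximal := by
      rw [hone _ hV hpg]
      exact IsAffineOpen.primeIdealOf_isMaximal_of_isClosed _ ⟨p, hpg⟩ hp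
    haveI := hmV
    refine ⟨RingHom.injective _, fun z => ?_⟩
    obtain ⟨z, rfl⟩ := Ideal.Quotient.mk_surjective z
    let q := Ideal.Quotient.mk ((Scheme.IdealSheafData.vanishingIdeal ⟨{p}, hp⟩).ideal ⟨PP.basicOpen g, hV⟩)
    haveI := hU.isLocalization_basicOpen g
    have hconst : ∀ x : Γ(PP, UU), ∃ c : k, q (φ c) = q (res x) := fun x => by
      obtain ⟨Q, rfl⟩ := hθ.2 x
      refine ⟨MvPolynomial.constantCoeff Q, RingHom.congr_fun
        (f := (q.comp φ).comp MvPolynomial.constantCoeff) (g := (q.comp res).comp θ) ?_ Q⟩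
      refine MvPolynomial.ringHom_ext (fun r => ?_) (fun j => ?_)
      · simp only [RingHom.comp_apply, MvPolynomial.constantCoeff_C, θ, MvPolynomial.eval₂Hom_C, φ,
          H11Proj.SepPts.κ_eq]
      · have hmem : res (f₀ j) ∈ (Scheme.IdealSheafData.vanishingIdeal ⟨{p}, hp⟩).ideal ⟨PP.basicOpen g, hV⟩ :=
          hsp ▸ Ideal.subset_span ⟨j, rfl⟩
        have hθX : θ (MvPolynomial.X j) = f₀ j := by
          show H11Proj.SepPts.γ i (MvPolynomial.eval₂Hom _ _ (MvPolynomial.X j)) = _
          rw [MvPolynomial.eval₂Hom_X', map_sub, H11Proj.SepPts.γ_X, ← RingHom.comp_apply, ← H11Proj.SepPts.κ_eq]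
        simp only [RingHom.comp_apply, MvPolynomial.constantCoeff_X, map_zero, hθX]
        exact (Ideal.Quotient.eq_zero_iff_mem.2 hmem).symm
    obtain ⟨⟨a, s⟩, hs⟩ := IsLocalization.surj (Submonoid.powers g) z
    obtain ⟨ca, hca⟩ := hconst a
    obtain ⟨cs, hcs⟩ := hconst s
    have hs0 : cs ≠ 0 := by
      rintro rfl
      rw [map_zero, map_zero] at hcs
      exact hmV.ne_top (Ideal.eq_top_of_isUnit_mem _ (Ideal.Quotient.eq_zero_iff_mem.1 hcs.symm)
        (IsLocalization.map_units (Γ(PP, PP.basicOpen g)) s))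
    refine ⟨ca / cs, ?_⟩
    show q (φ (ca / cs)) = q z
    have e : q z * q (φ cs) = q (φ ca) := by
      rw [hca, hcs]
      exact (map_mul q _ _).symm.trans (congrArg q hs)
    have hne : q (φ cs) ≠ 0 := fun h0 => hs0 ((injective_iff_map_eq_zero (q.comp φ)).1 (RingHom.injective _) cs h0)
    haveI : IsDomain (Γ(PP, PP.basicOpen g) ⧸
        (Scheme.IdealSheafData.vanishingIdeal ⟨{p}, hp⟩).ideal ⟨PP.basicOpen g, hV⟩) :=
      Ideal.Quotient.isDomain _
    refine mul_right_cancel₀ hne ?_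
    rw [e, ← map_mul, ← map_mul, div_mul_cancel₀ _ hs0]
  · rw [H11Tilde.hom_to_Spec_ext (CohB1.ProjSpace.toSpec (n + 1) k), ← Category.assoc]
    have : hV.fromSpec ≫ PP.toSpecΓ = Spec.map (PP.presheaf.map (homOfLE (le_top : PP.basicOpen g ≤ ⊤)).op) :=
      hV.fromSpec_toSpecΓ
    rw [this, ← Spec.map_comp]
    congr 1

/-- The exceptional divisor over one of the points is a projective space with conormal module `O(1)`. -/
theorem exists_exceptional [IsAlgClosed k] {X : Scheme.{u}} {π : X ⟶ CohB1.ProjSpace (n + 1) k}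
    {p : CohB1.ProjSpace (n + 1) k}
    (hp : IsClosed ({p} : Set (CohB1.ProjSpace (n + 1) k))) {S : Set (CohB1.ProjSpace (n + 1) k)} (hS : IsClosed S)
    (hpS : p ∈ S) (hS' : IsClosed (S \ {p})) (hπ : BlowUp.IsBlowUp π (Scheme.IdealSheafData.vanishingIdeal ⟨S, hS⟩)) :
    BlowUp.IsEffCartierIdeal ((Scheme.IdealSheafData.vanishingIdeal ⟨{p}, hp⟩).comap π) ∧
    ∃ (ι : CohB1.ProjSpace n k ⟶ X) (_ : IsClosedImmersion ι),
      ι.ker = (Scheme.IdealSheafData.vanishingIdeal ⟨{p}, hp⟩).comap π ∧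
      ι ≫ π ≫ CohB1.ProjSpace.toSpec (n + 1) k = CohB1.ProjSpace.toSpec n k ∧
      (∀ z, π (ι z) = p) ∧
      Nonempty ((Scheme.Modules.pullback ι).obj
        (ClSub.idealMod ((Scheme.IdealSheafData.vanishingIdeal ⟨{p}, hp⟩).comap π)) ≅ Twist.twistProjSpace n k 1) := by
  classical
  obtain ⟨V, hV, f, φ, hpV, honly, hI, hIS, hq, hφ, hφk⟩ := exists_coord_nhd hp hS hpS hS'
  set Ip := Scheme.IdealSheafData.vanishingIdeal (X := CohB1.ProjSpace (n + 1) k) ⟨{p}, hp⟩ with hIp
  haveI := hV.isOpenImmersion_fromSpec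
  have hP := S1680.result hV.fromSpec _ π hπ
  rw [H13CI.ExcSmooth.comap_fromSpec, hIS] at hP
  have hcIp : (Ip.comap π).comap (pullback.snd hV.fromSpec π) =
      BlowUp.exceptional (pullback.fst hV.fromSpec π) (centre (Ip.ideal ⟨V, hV⟩)) := by
    show _ = (centre (Ip.ideal ⟨V, hV⟩)).comap _
    rw [← H13CI.ExcSmooth.comap_fromSpec Ip hV, ← Scheme.IdealSheafData.comap_comp,
      ← Scheme.IdealSheafData.comap_comp, pullback.condition]
  have hrange : Set.range (pullback.snd hV.fromSpec π) = π ⁻¹' (V : Set (CohB1.ProjSpace (n + 1) k)) := by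
    rw [Scheme.Pullback.range_snd, hV.range_fromSpec]
  have hsupp : ∀ x ∈ ((Ip.comap π).support : Set X), π x = p := fun x hx => by
    rw [Scheme.IdealSheafData.support_comap] at hx
    have h2 : π x ∈ (Ip.support : Set _) := hx
    rw [Scheme.IdealSheafData.coe_support_vanishingIdeal] at h2
    exact h2
  let C : X.Opens := π ⁻¹ᵁ ⟨({p} : Set (CohB1.ProjSpace (n + 1) k))ᶜ, hp.isOpen_compl⟩
  have heff : BlowUp.IsEffCartierIdeal (Ip.comap π) := by
    let 𝒰 : X.OpenCover :=
      { I₀ := Bool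
        X := fun b => cond b (pullback hV.fromSpec π) C.toScheme
        f := fun b => match b with
          | true => pullback.snd hV.fromSpec π
          | false => C.ι
        mem₀ := by
          rw [Scheme.presieve₀_mem_precoverage_iff]
          refine ⟨fun x => ?_, fun b => ?_⟩
          · by_cases hx : π x ∈ V
            · exact ⟨true, hrange.ge hx⟩
            · exact ⟨false, ⟨⟨x, fun h => hx ((show π x = p from h) ▸ hpV)⟩, rfl⟩⟩
          · cases b
            · show IsOpenImmersion C.ι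
              infer_instance
            · show IsOpenImmersion (pullback.snd hV.fromSpec π)
              infer_instance }
    refine H26ModPair.isEff_of_openCover 𝒰 fun b => ?_
    cases b
    · show BlowUp.IsEffCartierIdeal ((Ip.comap π).comap C.ι)
      rw [H29Blow.comap_eq_top_of_range_disjoint C.ι _ fun z hz => (z.2 : C.ι z ∈ C) (hsupp _ hz)]
      exact isEff_top
    · show BlowUp.IsEffCartierIdeal ((Ip.comap π).comap (pullback.snd hV.fromSpec π))
      rw [hcIp]
      exact hP.1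
  refine ⟨heff, ?_⟩
  obtain ⟨ι', _, hker', hfac', ⟨τ'⟩⟩ := exists_exceptional_affine f (Ip.ideal ⟨V, hV⟩) hI φ hq hφ hP
  let E := (Ip.comap π).subschemeι
  let Z := pullback (pullback.snd hV.fromSpec π) E
  obtain ⟨e, he⟩ := H13CI.ExcSmooth.exists_iso_of_ker_eq ι' (pullback.fst (pullback.snd hV.fromSpec π) E) (by
    rw [hker', Scheme.IdealSheafData.ker_fst_of_isClosedImmersion, Scheme.IdealSheafData.ker_subschemeι]
    exact hcIp.symm)
  haveI : IsIso (pullback.snd (pullback.snd hV.fromSpec π) E) := by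
    haveI : Epi (pullback.snd (pullback.snd hV.fromSpec π) E).base := by
      rw [TopCat.epi_iff_surjective, ← Set.range_eq_univ]
      refine Set.eq_univ_of_forall fun z => ?_
      show z ∈ Set.range (pullback.snd (pullback.snd hV.fromSpec π) E)
      rw [Scheme.Pullback.range_snd]
      refine hrange.ge ?_
      show π (E z) ∈ V
      rw [hsupp _ (by rw [← Scheme.IdealSheafData.range_subschemeι]; exact ⟨z, rfl⟩)]
      exact hpV
    exact IsOpenImmersion.isIso _
  let j := e.hom ≫ pullback.snd (pullback.snd hV.fromSpec π) E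
  have hj : ι' ≫ pullback.snd hV.fromSpec π = j ≫ E := by
    rw [← he, Category.assoc, pullback.condition, ← Category.assoc]
  refine ⟨ι' ≫ pullback.snd hV.fromSpec π, hj ▸ inferInstance, ?_, ?_, fun z => ?_, ?_⟩
  · rw [hj, Scheme.Hom.ker_comp_of_isIso]
    exact Scheme.IdealSheafData.ker_subschemeι _
  · rw [Category.assoc, ← pullback.condition_assoc, hφk]
    exact hfac'
  · rw [hj]
    exact hsupp _ (by rw [← Scheme.IdealSheafData.range_subschemeι]; exact ⟨j z, rfl⟩)
  · obtain ⟨c⟩ := H12Pic.CurveFam.nonempty_pullback_idealMod_comap (pullback.snd hV.fromSpec π) heff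
      (by rw [hcIp]; exact hP.1)
    exact ⟨((Scheme.Modules.pullbackComp ι' (pullback.snd hV.fromSpec π)).app _).symm ≪≫
      (Scheme.Modules.pullback ι').mapIso (c ≪≫ eqToIso (congrArg ClSub.idealMod hcIp)) ≪≫ τ'⟩

end Groth.Agent.H02CA.BlowPts
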