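import Groth.Agent.H02CA.BlowPts.Hyper
import Groth.Agent.H02CA.BlowPts.Local
import Groth.Agent.H29Blow.Basic

/-!
# The lift of a hyperplane missing the centre to the blow-up
-/

set_option autoImplicit false
set_option linter.style.haveILetI false
set_option maxHeartbeats 1600000
universe u

open CategoryTheory CategoryTheory.Limits AlgebraicGeometry TopologicalSpace Opposite
open Groth.Agent

namespace Groth.Agent.H02CA.BlowPts

attribute [local instance] H28Vert.picLaw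

/-- A closed immersion missing the centre lifts to the blow-up. -/
theorem exists_lift_closedImmersion {X Y Z : Scheme.{u}} {π : X ⟶ Y} {I : Y.IdealSheafData}
    (hπ : BlowUp.IsBlowUp π I) [IsSeparated π] (j : Z ⟶ Y) [IsClosedImmersion j] (hj : ∀ z, j z ∉ I.support) :
    ∃ (e : Z ⟶ X) (_ : IsClosedImmersion e), e ≫ π = j ∧ e.ker = j.ker.comap π := by
  let W : Y.Opens := ⟨(I.support : Set Y)ᶜ, I.support.isClosed.isOpen_compl⟩
  haveI : IsIso (π ∣_ W) := H29Blow.isIso_morphismRestrict hπ W fun x hx => hx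
  have hr : Set.range j ⊆ Set.range W.ι := by
    rw [Scheme.Opens.range_ι]
    rintro _ ⟨z, rfl⟩
    exact hj z
  let l : Z ⟶ W.toScheme := IsOpenImmersion.lift W.ι j hr
  let l' : Z ⟶ (π ⁻¹ᵁ W).toScheme := l ≫ inv (π ∣_ W)
  have h1 : IsPullback l' (𝟙 Z) (π ∣_ W) l := IsPullback.of_vert_isIso ⟨by simp [l']⟩
  have h2 : IsPullback (l' ≫ (π ⁻¹ᵁ W).ι) (𝟙 Z) π (l ≫ W.ι) :=
    h1.paste_horiz (isPullback_morphismRestrict π W).flip
  rw [show l ≫ W.ι = j from IsOpenImmersion.lift_fac W.ι j hr] at h2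
  have he : (l' ≫ (π ⁻¹ᵁ W).ι) ≫ π = j := h2.w.trans (Category.id_comp j)
  haveI : IsClosedImmersion ((l' ≫ (π ⁻¹ᵁ W).ι) ≫ π) := he ▸ inferInstance
  haveI : IsClosedImmersion (l' ≫ (π ⁻¹ᵁ W).ι) := IsClosedImmersion.of_comp _ π
  refine ⟨_, inferInstance, he, ?_⟩
  rw [← Scheme.IdealSheafData.ker_fst_of_isClosedImmersion j π,
    ← h2.isoPullback_hom_fst, Scheme.Hom.ker_comp_of_isIso]

variable {k : Type u} [Field k] {n : ℕ}

theorem cls_eq_of_iso {X : Scheme.{u}} {L M : X.Modules} (hL : PicF.IsInvertible L) (hM : PicF.IsInvertible M)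
    (e : Nonempty (L ≅ M)) : PicGrp.cls L hL = PicGrp.cls M hM :=
  (PicGrp.cls_eq_cls_iff hL hM).2 e

theorem res_eq_one {X Z : Scheme.{u}} (g : Z ⟶ X) {L : X.Modules} (hL : PicF.IsInvertible L)
    (h : Nonempty ((Scheme.Modules.pullback g).obj L ≅ Coh.structureModule Z)) : res g (PicGrp.cls L hL) = 1 := by
  rw [res_cls]
  exact (PicGrp.cls_eq_one_iff _).2 h

theorem res_comp {X Y Z : Scheme.{u}} (g : Z ⟶ X) (π : X ⟶ Y) (c : PicLoc.PicSet Y) :
    res g (res π c) = res (g ≫ π) c := by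
  obtain ⟨L, hL, rfl⟩ := PicGrp.exists_eq_cls c
  rw [res_cls, res_cls, res_cls]
  exact cls_eq_of_iso _ _ ⟨(Scheme.Modules.pullbackComp g π).app L⟩

/-- The embedding of a hyperplane, between projective spaces. -/
noncomputable abbrev hemb (a : Fin (n + 2) → k) (p : Fin (n + 2)) :
    CohB1.ProjSpace n k ⟶ CohB1.ProjSpace (n + 1) k := H22Alg.HyperplanePn.emb a p

instance (a : Fin (n + 2) → k) (p : Fin (n + 2)) : IsClosedImmersion (hemb a p) :=
  H22Alg.HyperplanePn.isClosedImmersion_emb a p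

theorem res_O1_emb (a : Fin (n + 2) → k) (p : Fin (n + 2)) (hp : a p ≠ 0) :
    res (hemb a p) (O1 (n + 1) k) = O1 n k := by
  obtain ⟨s, -, -, hi⟩ := VBPn.exists_cutting_section a p hp
  rw [O1, res_cls]
  exact cls_eq_of_iso _ _ hi

/-- What the hyperplane gives. -/
theorem exists_e [Infinite k] {X : Scheme.{u}} {π : X ⟶ CohB1.ProjSpace (n + 1) k}
    {I : (CohB1.ProjSpace (n + 1) k).IdealSheafData} (hπ : BlowUp.IsBlowUp π I) [IsSeparated π]
    (hI : (I.support : Set (CohB1.ProjSpace (n + 1) k)).Finite) :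
    ∃ (e : CohB1.ProjSpace n k ⟶ X) (_ : IsClosedImmersion e) (he : PicF.IsInvertible (ClSub.idealMod e.ker)),
      PicGrp.cls (ClSub.idealMod e.ker) he = (res π (O1 (n + 1) k))⁻¹ ∧
      res e (res π (O1 (n + 1) k)) = O1 n k ∧
      (∀ z, π (e z) ∉ I.support) ∧
      e ≫ π ≫ CohB1.ProjSpace.toSpec (n + 1) k = CohB1.ProjSpace.toSpec n k ∧
      ∃ (j : CohB1.ProjSpace n k ⟶ CohB1.ProjSpace (n + 1) k) (_ : IsClosedImmersion j)
        (hj : PicF.IsInvertible (ClSub.idealMod j.ker)),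
        PicGrp.cls (ClSub.idealMod j.ker) hj = (O1 (n + 1) k)⁻¹ ∧ e ≫ π = j := by
  obtain ⟨a, p, hp, hav⟩ := exists_hyperplane_avoiding hI
  obtain ⟨e, he, hfac, hker⟩ := exists_lift_closedImmersion hπ (hemb a p) hav
  have hG := VBPn.form_ne_zero hp
  have hD := H10Coh.CI.isEffCartierIdeal_hypIdeal
    (⟨_, VBPn.form_mem a⟩ : LefPen.Form (n + 1) k 1) hG
  obtain ⟨σ⟩ := H10Coh.CI.nonempty_idealMod_hypIdeal (⟨_, VBPn.form_mem a⟩ : LefPen.Form (n + 1) k 1) hG
  replace hD : BlowUp.IsEffCartierIdeal (hemb a p).ker := by rwa [← ker_emb_eq_hypIdeal a p hp] at hD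
  have hDπ := H29Blow.isEffCartierIdeal_comap_blowUp hπ hD
  have hinv : PicF.IsInvertible (ClSub.idealMod e.ker) := hker ▸ H29Blow.isInvertible_of_isEffCartierIdeal _ hDπ
  have hinvj := H29Blow.isInvertible_of_isEffCartierIdeal _ hD
  have h1 : PicGrp.cls (ClSub.idealMod (hemb a p).ker) hinvj = (O1 (n + 1) k)⁻¹ := by
    rw [← zpow_neg_one, ← cls_twist]
    exact cls_eq_of_iso _ _ ⟨eqToIso (congrArg ClSub.idealMod (ker_emb_eq_hypIdeal a p hp)) ≪≫ σ ≪≫
      eqToIso (congrArg (Twist.twistProjSpace (n + 1) k) (by simp))⟩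
  refine ⟨e, he, hinv, ?_, ?_, ?_, ?_, hemb a p, inferInstance, hinvj, h1, hfac⟩
  · obtain ⟨τ⟩ := H12Pic.CurveFam.nonempty_pullback_idealMod_comap π hD hDπ
    rw [← map_inv, ← h1, res_cls]
    exact cls_eq_of_iso _ _ ⟨eqToIso (congrArg ClSub.idealMod hker) ≪≫ τ.symm⟩
  · rw [res_comp, hfac, res_O1_emb a p hp]
  · intro z
    rw [show π (e z) = (e ≫ π) z from rfl, hfac]
    exact hav z
  · rw [← Category.assoc, hfac]
    exact H22Alg.MumfordStep.emb_toSpec a p

end Groth.Agent.H02CA.BlowPts
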