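import Groth.Agent.H02CA.BlowPts.GeomH
import Groth.Agent.H10Coh.CI.ClosedSeq
import Groth.Agent.LeadVA.Transport

/-!
# Sections of the twists on the blow-up near the lifted hyperplane
-/

set_option autoImplicit false
set_option linter.style.haveILetI false
set_option maxHeartbeats 1600000
universe u

open CategoryTheory CategoryTheory.Limits AlgebraicGeometry TopologicalSpace Opposite Abelian
open Groth.Agent

namespace Groth.Agent.H02CA.BlowPts

attribute [local instance 10000] H10Coh.hasSheafifyAb H10Coh.hasWeakSheafifyAb H10Coh.hasExtAb H10Coh.enoughInjAb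
attribute [local instance] H28Vert.picLaw

theorem subsingleton_H1_of_surjective {X : Scheme.{u}} {S : ShortComplex X.Modules} (hS : S.ShortExact)
    (hg : Function.Surjective (S.g.app ⊤)) (h₂ : Subsingleton (Coh.HH X S.X₂ 1)) :
    Subsingleton (Coh.HH X S.X₁ 1) :=
  subsingleton_of_forall_eq 0 fun x => by
    obtain ⟨y, rfl⟩ := H10Coh.HHSeq.exists_dl hS 0 x (h₂.elim _ _)
    obtain ⟨t, ht⟩ := hg (H10Coh.HH0Equiv S.X₃ y)
    have hy : LeadFF.Hm S.g 0 ((H10Coh.HH0Equiv S.X₂).symm t) = y := by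
      apply (H10Coh.HH0Equiv S.X₃).injective
      rw [H28NT.HH0Equiv_map, AddEquiv.apply_symm_apply, ht]
    rw [← hy]
    show Ext.comp (Ext.comp _ (Ext.mk₀ _) (add_zero 0)) (H10Coh.shortExact_sh hS).extClass rfl = 0
    exact ((Ext.comp_assoc_of_second_deg_zero _ _ _ _).trans
      (congrArg (fun z => Ext.comp _ z rfl) (H10Coh.shortExact_sh hS).comp_extClass)).trans (Ext.comp_zero _ _ _ _ _)

/-- Global functions on a proper integral scheme over an algebraically closed field are constants. -/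
theorem bijective_const {k : Type u} [Field k] [IsAlgClosed k] {X : Scheme.{u}} [IsIntegral X]
    (f : X ⟶ Spec (CommRingCat.of k)) [UniversallyClosed f] :
    Function.Bijective ((Scheme.ΓSpecIso (CommRingCat.of k)).inv ≫ f.appTop) := by
  let F := (Scheme.ΓSpecIso (CommRingCat.of k)).inv ≫ f.appTop
  have hF : F.hom.IsIntegral := by
    apply RingHom.isIntegral_respectsIso.2 (e := (Scheme.ΓSpecIso _).symm.commRingCatIsoToRingEquiv)
    exact isIntegral_appTop_of_universallyClosed f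
  letI := F.hom.toAlgebra
  haveI : Algebra.IsIntegral k Γ(X, ⊤) := ⟨hF⟩
  exact IsAlgClosed.algebraMap_bijective_of_isIntegral

/-- No section of the ideal of a nonempty closed subscheme. -/
theorem cvan_zero_idealMod {k : Type u} [Field k] [IsAlgClosed k] {X : Scheme.{u}} [IsIntegral X]
    (f : X ⟶ Spec (CommRingCat.of k)) [UniversallyClosed f] {Z : Scheme.{u}} [Nonempty Z] (e : Z ⟶ X)
    [IsClosedImmersion e] (he : PicF.IsInvertible (ClSub.idealMod e.ker)) :
    CVan 0 (PicGrp.cls (ClSub.idealMod e.ker) he) := by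
  rw [cvan_iff]
  haveI : Subsingleton Γ(ClSub.idealMod e.ker, ⊤) := subsingleton_of_forall_eq 0 fun z => by
    refine H29Blow.idealSect_injective e.ker ⊤ ?_
    rw [map_zero]
    obtain ⟨c, hc⟩ := (bijective_const f).2 (OmegaSh.idealSect e.ker ⊤ z)
    rcases eq_or_ne c 0 with rfl | hc0
    · rw [← hc, map_zero]
    exfalso
    have hu : IsUnit (OmegaSh.idealSect e.ker ⊤ z) := hc ▸ (IsUnit.mk0 c hc0).map _
    haveI : Nonempty (e ⁻¹ᵁ (⊤ : X.Opens) : Z.Opens) := ⟨⟨Classical.arbitrary Z, trivial⟩⟩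
    exact not_isUnit_zero ((H10Coh.CI.app_idealSect e ⊤ z) ▸ hu.map (e.app ⊤).hom)
  exact ((H10Coh.HHEquiv _ 0).trans (H10Coh.H0Equiv (H10Coh.sh (ClSub.idealMod e.ker)) (⊤ : X.Opens))).toEquiv.subsingleton (β := Γ(ClSub.idealMod e.ker, ⊤))

variable {k : Type u} [Field k] {n : ℕ}

/-- Vanishing of `H¹` passes to the twist by a lifted hyperplane. -/
theorem cvan_one_lift {X : Scheme.{u}} (π : X ⟶ CohB1.ProjSpace (n + 1) k) (j : CohB1.ProjSpace n k ⟶ CohB1.ProjSpace (n + 1) k)
    [IsClosedImmersion j] (hj : PicF.IsInvertible (ClSub.idealMod j.ker))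
    (hj' : PicGrp.cls (ClSub.idealMod j.ker) hj = (O1 (n + 1) k)⁻¹)
    (e : CohB1.ProjSpace n k ⟶ X) [IsClosedImmersion e] (he : e ≫ π = j)
    (hi : PicF.IsInvertible (ClSub.idealMod e.ker))
    (hi' : PicGrp.cls (ClSub.idealMod e.ker) hi = (res π (O1 (n + 1) k))⁻¹)
    (c : ℕ) (h : CVan 1 (res π (O1 (n + 1) k) ^ (c : ℤ))) : CVan 1 (res π (O1 (n + 1) k) ^ ((c : ℤ) - 1)) := by
  obtain ⟨L, hL, hLc⟩ := PicGrp.exists_eq_cls (O1 (n + 1) k ^ (c : ℤ))
  let N := (Scheme.Modules.pullback π).obj L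
  have hN : PicF.IsInvertible N := PicLoc.isInvertible_pullback π hL
  have hcN : PicGrp.cls N hN = res π (O1 (n + 1) k) ^ (c : ℤ) := by rw [← map_zpow, hLc, res_cls π L hL]
  have hsurjP : Function.Surjective (OmegaSh.pullSect j L ⊤) := by
    refine H10Coh.CI.surjective_pullSect j hL ?_
    rw [← cvan_iff (H11Ample.isInvertible_tensor hj hL)]
    have : PicGrp.cls _ (H11Ample.isInvertible_tensor hj hL) = O1 (n + 1) k ^ ((c : ℤ) - 1) := by
      rw [zpow_sub_one, hLc, ← hj', mul_comm]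
      exact Subtype.ext (PicGrp.cls_mul_cls_val hj hL).symm
    rw [this]
    exact cvan_twist (n + 1) _ 1 (by omega) (by omega)
  have hsurj : Function.Surjective (OmegaSh.pullSect e N ⊤) := by
    intro w
    obtain ⟨φ, hφ⟩ := LeadVA.exists_iso_pullTop e π j he L
    obtain ⟨m, hm⟩ := hsurjP (φ.hom.app ⊤ w)
    refine ⟨N.presheaf.map (homOfLE (le_top : (⊤ : X.Opens) ≤ ⊤)).op (OmegaSh.pullSect π L ⊤ m), ?_⟩
    refine (ConcreteCategory.bijective_of_isIso (φ.hom.app ⊤)).1 ?_
    refine Eq.trans ?_ hm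
    refine Eq.trans ?_ ((hφ ⊤ le_rfl le_rfl m).trans (H10Coh.mres_self _ _ _))
    rfl
  have hS := H10Coh.CI.closedSeq_shortExact e hN
  have h1 := subsingleton_H1_of_surjective hS hsurj ((cvan_iff hN).1 (hcN ▸ h))
  have : PicGrp.cls _ (H11Ample.isInvertible_tensor hi hN) = res π (O1 (n + 1) k) ^ ((c : ℤ) - 1) := by
    rw [zpow_sub_one, ← hcN, ← hi', mul_comm]
    exact Subtype.ext (PicGrp.cls_mul_cls_val hi hN).symm
  rw [← this, cvan_iff]
  exact h1

end Groth.Agent.H02CA.BlowPts
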