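import Groth.Agent.H02CA.BlowPts.Pic
import Groth.Agent.H02CA.VBPn.Hyper
import Groth.Agent.H10Coh.CI.HypMod
import Groth.Agent.H25Transversal.HypChart

/-!
# A hyperplane missing finitely many points
-/

set_option autoImplicit false
set_option linter.style.haveILetI false
set_option maxHeartbeats 1600000
universe u

open CategoryTheory CategoryTheory.Limits AlgebraicGeometry TopologicalSpace Opposite
open Groth.Agent Groth.Agent.H11Tilde
open CohB1 (polyGrading)

namespace Groth.Agent.H02CA.BlowPts

open H22Alg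

variable {k : Type u} [Field k] {n : ℕ}

theorem ker_emb_eq_hypIdeal (a : Fin (n + 2) → k) (p : Fin (n + 2)) (hp : a p ≠ 0) :
    (HyperplanePn.emb a p).ker = LefPen.hypIdeal (⟨HyperplaneAlg.form a, VBPn.form_mem a⟩ : LefPen.Form (n + 1) k 1) := by
  obtain ⟨s, hs0, -⟩ := MumfordStep.exists_section (polyGrading (n + 1) k) (VBPn.form_mem a)
  refine Scheme.IdealSheafData.ext_of_iSup_eq_top (fun t => H25Transversal.chartU (n + 1) k t)
    (H11Proj.ProjSpace.iSup_basicOpen (n := n + 1) (R := k)) fun t => ?_
  refine ((congrArg (fun I => Scheme.IdealSheafData.ideal I (H25Transversal.chartU (n + 1) k t))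
    (HyperplanePn.ker_emb (VBPn.form_mem a) s hs0 a p hp rfl (VBPn.form_ne_zero hp))).symm.trans ?_).trans
    (H25Transversal.hypIdeal_ideal_chart _ t).symm
  exact HyperplanePn.ideal_eq_span (VBPn.form_mem a) s hs0 (VBPn.form_ne_zero hp) (LefPen.X_mem (n + 1) k t)

/-- A hyperplane missing finitely many points. -/
theorem exists_hyperplane_avoiding [Infinite k] {S : Set (CohB1.ProjSpace (n + 1) k)} (hS : S.Finite) :
    ∃ (a : Fin (n + 2) → k) (p : Fin (n + 2)), a p ≠ 0 ∧ ∀ z, HyperplanePn.emb a p z ∉ S := by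
  classical
  haveI := hS.to_subtype
  let K : Option S → Submodule k (Fin (n + 2) → k) := fun o => match o with
    | none => ⊥
    | some x =>
      { carrier := {a | HyperplaneAlg.form a ∈ x.1.asHomogeneousIdeal.toIdeal}
        zero_mem' := by simp [HyperplaneAlg.form]
        add_mem' := fun {a b} ha hb => by
          show HyperplaneAlg.form (a + b) ∈ x.1.asHomogeneousIdeal.toIdeal
          rw [show HyperplaneAlg.form (a + b) = HyperplaneAlg.form a + HyperplaneAlg.form b by
            simp [HyperplaneAlg.form, add_mul, Finset.sum_add_distrib]]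
          exact Ideal.add_mem _ ha hb
        smul_mem' := fun c a ha => by
          show HyperplaneAlg.form (c • a) ∈ x.1.asHomogeneousIdeal.toIdeal
          rw [show HyperplaneAlg.form (c • a) = MvPolynomial.C c * HyperplaneAlg.form a by
            simp [HyperplaneAlg.form, Finset.mul_sum, mul_assoc]]
          exact Ideal.mul_mem_left _ _ ha }
  obtain ⟨a, ha⟩ : ∃ a, ∀ o, a ∉ K o := by
    by_contra hc
    push Not at hc
    obtain ⟨o, ho⟩ := Subspace.exists_eq_top_of_iUnion_eq_univ (p := K)
      (Set.eq_univ_of_forall fun a => Set.mem_iUnion.2 (hc a))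
    cases o with
    | none => exact bot_ne_top ho
    | some x =>
      obtain ⟨t, ht⟩ := H11Ample.exists_mem_basicOpen_X (n := n + 1) (R := k) x.1
      have : Pi.single t 1 ∈ K (some x) := ho ▸ Submodule.mem_top
      refine ht ((congrArg (· ∈ x.1.asHomogeneousIdeal.toIdeal) ?_).mp this)
      simp [HyperplaneAlg.form, Pi.single_apply]
  obtain ⟨p, hp⟩ : ∃ p, a p ≠ 0 := Function.ne_iff.1 (ha none : a ≠ 0)
  refine ⟨a, p, hp, fun z hz => ha (some ⟨_, hz⟩) ?_⟩
  show HyperplaneAlg.hom a p (HyperplaneAlg.form a) ∈ z.asHomogeneousIdeal.toIdeal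
  rw [HyperplaneAlg.hom_form hp]
  exact zero_mem _

end Groth.Agent.H02CA.BlowPts
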