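import Groth.Agent.H02CA.BlowPts.Pic
import Groth.Agent.H22Alg.CMField
import Groth.Agent.H22Alg.KosTwist
import Groth.Agent.H10Coh.HHSeq

/-!
# Acyclic classes spread along a family of sections without common zero
-/

set_option autoImplicit false
set_option linter.style.haveILetI false
set_option maxHeartbeats 1600000
universe u

open CategoryTheory CategoryTheory.Limits AlgebraicGeometry TopologicalSpace Opposite
open Groth.Agent

namespace Groth.Agent.H02CA.BlowPts

attribute [local instance 10000] H10Coh.hasSheafifyAb H10Coh.hasWeakSheafifyAb H10Coh.hasExtAb H10Coh.enoughInjAb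
attribute [local instance] H28Vert.picLaw

open H22Alg

variable {X : Scheme.{u}}

/-- A class without cohomology. -/
def CAcyc (c : PicLoc.PicSet X) : Prop := ∀ q, CVan q c

theorem van_bot {K : ℕ → X.Modules} {d : ∀ j, K j ⟶ K (j + 1)} (w : ∀ j, d j ≫ d (j + 1) = 0)
    (hex : ∀ j, (ShortComplex.mk (d j) (d (j + 1)) (w j)).Exact) (hd0 : Mono (d 0)) (N : ℕ)
    (hN : IsZero (K (N + 1))) (hK : ∀ j, 1 ≤ j → j ≤ N → ∀ q, CMField.Van q (K j)) :
    ∀ q, CMField.Van q (K 0) := by
  have hZ : ∀ e j, j + e = N + 1 → 1 ≤ j → ∀ q, CMField.Van q (kernel (d j)) := by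
    intro e
    induction e with
    | zero =>
      intro j hj _ q
      obtain rfl : j = N + 1 := by omega
      exact H10Coh.Tw.subsingleton_of_iso ((IsZero.of_mono (kernel.ι (d (N + 1))) hN).iso (isZero_zero _)).symm CMField.van_zero
    | succ e ih =>
      intro j hj h1 q
      have hS := ExactVanish.shortExact_cycles w hex j
      rw [CMField.van_iff]
      cases q with
      | zero =>
        exact H10Coh.HHSeq.subsingleton_zero hS (CMField.van_iff.1 (hK j h1 (by omega) 0))
      | succ q =>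
        exact H10Coh.HHSeq.subsingleton₁ hS (CMField.van_iff.1 (ih (j + 1) (by omega) (by omega) q))
          (CMField.van_iff.1 (hK j h1 (by omega) (q + 1)))
  intro q
  exact H10Coh.Tw.subsingleton_X₂ (H10Coh.shortExact_sh (ExactVanish.shortExact_cycles w hex 0))
    (H10Coh.Tw.subsingleton_of_iso (kernel.ofMono (d 0)).symm CMField.van_zero) (hZ N 1 (by omega) le_rfl q)

variable {L : X.Modules} (hL : PicF.IsInvertible L) (v : ℕ → Γ(L, ⊤)) (r : ℕ)
  (hv : ∀ z : X, ∃ j < r, z ∈ H11Ample.gen L (v j))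

include hL in
theorem cls_A {G : X.Modules} (hG : PicF.IsInvertible G) : ∀ t : ℕ,
    ∃ h : PicF.IsInvertible (KosTwist.A L G t), PicGrp.cls _ h = PicGrp.cls G hG * PicGrp.cls L hL ^ t
  | 0 => ⟨hG, by rw [pow_zero, mul_one]; rfl⟩
  | t + 1 => by
    obtain ⟨h, e⟩ := cls_A hG t
    refine ⟨H11Ample.isInvertible_tensor h hL, ?_⟩
    rw [pow_succ, ← mul_assoc, ← e]
    exact Subtype.ext (PicGrp.cls_mul_cls_val h hL).symm

include hv in
/-- Koszul: `r` consecutive acyclic classes give the next one, in both directions. -/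
theorem cacyc_koszul (g : PicLoc.PicSet X) :
    ((∀ j < r, CAcyc (g * PicGrp.cls L hL ^ j)) → CAcyc (g * PicGrp.cls L hL ^ r)) ∧
    ((∀ j, 1 ≤ j → j ≤ r → CAcyc (g * PicGrp.cls L hL ^ j)) → CAcyc g) := by
  obtain ⟨G, hG, rfl⟩ := PicGrp.exists_eq_cls g
  have hE := KosTwist.exact (G := G) (v := v) hL hv 0
  have hterm : ∀ j q, CVan q (PicGrp.cls G hG * PicGrp.cls L hL ^ j) →
      CMField.Van q (KosLine.L (KosTwist.A L G) r 0 j) := fun j q h => by
    refine KosLine.mem_L (CMField.Van q) CMField.van_zero (fun _ _ => CMField.van_biprod) r 0 j fun _ => ?_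
    obtain ⟨hA, e⟩ := cls_A hL hG (0 + j)
    rw [CMField.van_iff, ← cvan_iff hA, e, Nat.zero_add]
    exact h
  refine ⟨fun h q => ?_, fun h q => ?_⟩
  · obtain ⟨hA, e⟩ := cls_A hL hG r
    haveI := KosLine.isIso_top (A := KosTwist.A L G) r 0 r (Nat.zero_add _)
    rw [← e, cvan_iff, ← CMField.van_iff]
    refine H10Coh.Tw.subsingleton_of_iso (asIso (KosLine.top (KosTwist.A L G) r 0 r (Nat.zero_add _))) ?_
    exact CMField.van_top _ hE.2 hE.1 r q (KosLine.isZero_L _ _ _ (by omega)) fun j e' he =>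
      hterm j _ (h j (by omega) _)
  · have h0 := van_bot _ hE.2 hE.1 r (KosLine.isZero_L _ _ _ (by omega)) (fun j h1 h2 q => hterm j q (h j h1 h2 q)) q
    have hL0 : ∀ r, KosLine.L (KosTwist.A L G) r 0 0 = G := fun r => by
      induction r with
      | zero => rfl
      | succ r ih => exact ih
    rw [hL0] at h0
    rw [cvan_iff, ← CMField.van_iff]
    exact h0

end Groth.Agent.H02CA.BlowPts
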