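import Groth.Agent.H02CA.BlowPts.DivSeq
import Groth.Agent.H28Vert.VertGroup
import Groth.Agent.H28Int.Vanishing
import Groth.Agent.H10Coh.Pn.Results
import Groth.Agent.H02CA.VBPn.Resolution

/-!
# Cohomology of classes of invertible modules along restriction sequences
-/

set_option autoImplicit false
set_option linter.style.haveILetI false
set_option maxHeartbeats 1600000
universe u

open CategoryTheory CategoryTheory.Limits AlgebraicGeometry TopologicalSpace Opposite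
open Groth.Agent

namespace Groth.Agent.H02CA.BlowPts

attribute [local instance 10000] H10Coh.hasSheafifyAb H10Coh.hasWeakSheafifyAb H10Coh.hasExtAb H10Coh.enoughInjAb
attribute [local instance] H28Vert.picLaw

open H22Alg

variable {X Z : Scheme.{u}}

/-- The pullback of classes. -/
noncomputable def res (e : Z ⟶ X) : PicLoc.PicSet X →* PicLoc.PicSet Z :=
  PicGrp.pullHom e (H28Vert.pullMul e)

theorem res_cls (e : Z ⟶ X) (L : X.Modules) (hL : PicF.IsInvertible L) :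
    res e (PicGrp.cls L hL) = PicGrp.cls ((Scheme.Modules.pullback e).obj L) (PicLoc.isInvertible_pullback e hL) :=
  PicGrp.pullHom_cls e _ L hL

/-- Vanishing of cohomology for a class. -/
def CVan (q : ℕ) (c : PicLoc.PicSet X) : Prop :=
  ∀ (M : X.Modules) (hM : PicF.IsInvertible M), PicGrp.cls M hM = c → Subsingleton (Coh.HH X M q)

theorem cvan_iff {q : ℕ} {M : X.Modules} (hM : PicF.IsInvertible M) :
    CVan q (PicGrp.cls M hM) ↔ Subsingleton (Coh.HH X M q) := by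
  refine ⟨fun h => h M hM rfl, fun h M' hM' e => ?_⟩
  obtain ⟨i⟩ := (PicGrp.cls_eq_cls_iff hM' hM).1 e
  exact H10Coh.subsingleton_HH_of_iso i.symm q h

/-- The classes of the twists. -/
noncomputable def O1 (n : ℕ) (k : Type u) [CommRing k] : PicLoc.PicSet (CohB1.ProjSpace n k) :=
  PicGrp.cls (Twist.twistProjSpace n k 1) ((H10Coh.Stab.isTwistFamily_projSpace n k).inv 1)

theorem cls_family {O : ℤ → X.Modules} (h : H10Coh.Stab.IsTwistFamily O) (d : ℤ) :
    PicGrp.cls (O d) (h.inv d) = PicGrp.cls (O 1) (h.inv 1) ^ d := by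
  have hadd : ∀ a b, PicGrp.cls (O (a + b)) (h.inv (a + b)) = PicGrp.cls (O a) (h.inv a) * PicGrp.cls (O b) (h.inv b) :=
    fun a b => Subtype.ext ((PicGrp.cls_mul_cls_val (h.inv a) (h.inv b)).trans
      ((PicGrp.cl_eq_cl_iff _ _).2 (h.add a b))).symm
  have h0 : PicGrp.cls (O 0) (h.inv 0) = 1 := (PicGrp.cls_eq_one_iff _).2 h.zero
  induction d using Int.induction_on with
  | zero => rw [h0, zpow_zero]
  | succ m ih => rw [hadd, ih, zpow_add_one]
  | pred m ih =>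
    have := hadd (-(m : ℤ) - 1) 1
    simp only [sub_add_cancel] at this
    rw [zpow_sub_one, ← ih, eq_mul_inv_iff_mul_eq, ← this]

theorem cls_twist (n : ℕ) (k : Type u) [CommRing k] (d : ℤ) :
    PicGrp.cls (Twist.twistProjSpace n k d) ((H10Coh.Stab.isTwistFamily_projSpace n k).inv d) = O1 n k ^ d :=
  cls_family (H10Coh.Stab.isTwistFamily_projSpace n k) d

theorem pn_van {k : Type u} [CommRing k] (n : ℕ) (d : ℤ) (L : ℤ → (CohB1.ProjSpace n k).Modules)
    (hL : ∀ c, L c = H10Coh.Pn.Od n k c) (q : ℕ) (h₀ : ¬(q = 0 ∧ 0 ≤ d)) (h₁ : ¬(q = n ∧ d ≤ -((n : ℤ) + 1))) :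
    Subsingleton (Coh.HH (CohB1.ProjSpace n k) (L d) q) := by
  rw [hL]
  exact H10Coh.Pn.subsingleton_HH_Od q h₀ h₁

theorem cvan_twist {k : Type u} [CommRing k] (n : ℕ) (d : ℤ) (q : ℕ) (h₀ : ¬(q = 0 ∧ 0 ≤ d))
    (h₁ : ¬(q = n ∧ d ≤ -((n : ℤ) + 1))) : CVan q (O1 n k ^ d) := by
  rw [← cls_twist, cvan_iff]
  exact pn_van n d _ (fun c => H17.PnExt.od_eq n k c) q h₀ h₁

/-- The three uses of the sequence `0 → N ⊗ I → N → e_* e^* N → 0`. -/
theorem cvan_seq [IsLocallyNoetherian X] [IsLocallyNoetherian Z] (e : Z ⟶ X) [IsClosedImmersion e]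
    {I : X.IdealSheafData} (hI : e.ker = I) (hIi : PicF.IsInvertible (ClSub.idealMod I)) (c : PicLoc.PicSet X) :
    (∀ q, CVan q (c * PicGrp.cls (ClSub.idealMod I) hIi) → CVan q (res e c) → CVan q c) ∧
    (∀ q, CVan (q + 1) c → CVan q (res e c) → CVan (q + 1) (c * PicGrp.cls (ClSub.idealMod I) hIi)) ∧
    (CVan 0 c → CVan 0 (c * PicGrp.cls (ClSub.idealMod I) hIi)) := by
  obtain ⟨N, hN, rfl⟩ := PicGrp.exists_eq_cls c
  obtain ⟨S, hS, ⟨e₁⟩, ⟨e₂⟩, h₃⟩ := exists_divSeq e hI hN (Iso.refl ((Scheme.Modules.pullback e).obj N))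
  have hprod : PicGrp.cls (CohB1.tensorMod N (ClSub.idealMod I)) (H11Ample.isInvertible_tensor hN hIi) =
      PicGrp.cls N hN * PicGrp.cls (ClSub.idealMod I) hIi := Subtype.ext (PicGrp.cls_mul_cls_val hN hIi).symm
  simp only [res_cls, cvan_iff, ← hprod]
  refine ⟨fun q h1 hr => ?_, fun q h2 hr => ?_, fun h2 => ?_⟩
  · refine H10Coh.subsingleton_HH_of_iso e₂ q ?_
    rw [← CMField.van_iff]
    exact H10Coh.Tw.subsingleton_X₂ (H10Coh.shortExact_sh hS)
      (CMField.van_iff.2 (H10Coh.subsingleton_HH_of_iso e₁.symm q h1)) (CMField.van_iff.2 (h₃ q hr))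
  · refine H10Coh.subsingleton_HH_of_iso e₁ (q + 1) ?_
    rw [← CMField.van_iff]
    exact H28Int.subsingleton_X₁ (H10Coh.shortExact_sh hS)
      (CMField.van_iff.2 (H10Coh.subsingleton_HH_of_iso e₂.symm (q + 1) h2)) (CMField.van_iff.2 (h₃ q hr))
  · refine H10Coh.subsingleton_HH_of_iso e₁ 0 ?_
    haveI := hS.mono_f
    haveI := H10Coh.subsingleton_HH_of_iso e₂.symm 0 h2
    haveI : Subsingleton Γ(S.X₂, ⊤) :=
      ((H10Coh.HHEquiv S.X₂ 0).trans (H10Coh.H0Equiv (H10Coh.sh S.X₂) (⊤ : X.Opens))).symm.toEquiv.subsingleton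
    haveI : Subsingleton Γ(S.X₁, ⊤) := (H10Coh.injective_app_of_mono' S.f ⊤).subsingleton
    exact @Equiv.subsingleton _ _ ((H10Coh.HHEquiv S.X₁ 0).trans (H10Coh.H0Equiv (H10Coh.sh S.X₁) (⊤ : X.Opens))).toEquiv
      (inferInstanceAs (Subsingleton Γ(S.X₁, ⊤)))

end Groth.Agent.H02CA.BlowPts
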