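import Groth.Agent.H11P1n.ToPn
import Groth.Agent.H11Proj.SeparatesPoints
import Groth.Agent.H28Contr.ProjLine

/-!
# Isomorphisms with projective space from sections with polynomial charts
-/

set_option autoImplicit false
set_option linter.style.haveILetI false
set_option backward.isDefEq.respectTransparency.types false
universe u

open CategoryTheory CategoryTheory.Limits AlgebraicGeometry Opposite TopologicalSpace
open Groth.Agent Groth.Agent.H11Tilde Groth.Agent.H11Ample
open CohB1 (polyGrading ProjSpace)

namespace Groth.Agent.H02CA.BlowPts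

variable {k : Type u} [Field k] {n : ℕ} {X : Scheme.{u}} {L : X.Modules}

/-- A scheme with sections of an invertible module generating it on affine opens whose rings are the
polynomial rings in the ratios is projective space. -/
theorem exists_iso_Pn (q : X ⟶ Spec (CommRingCat.of k)) (hL : PicF.IsInvertible L)
    (v : Fin (n + 1) → Γ(L, ⊤)) (hcov : ∀ x, ∃ i, x ∈ gen L (v i)) (haff : ∀ i, IsAffineOpen (gen L (v i)))
    (c : ∀ i, {j : Fin (n + 1) // j ≠ i} → Γ(X, gen L (v i)))
    (hc : ∀ i j, L.presheaf.map (homOfLE (le_top : gen L (v i) ≤ ⊤)).op (v (Subtype.val j)) =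
      c i j • L.presheaf.map (homOfLE (le_top : gen L (v i) ≤ ⊤)).op (v i))
    (hbij : ∀ i, Function.Bijective (MvPolynomial.eval₂Hom (H28Contr.consts q (gen L (v i))) (c i))) :
    ∃ r : X ⟶ ProjSpace n k, IsIso r ∧ r ≫ ProjSpace.toSpec n k = q ∧
      Nonempty ((Scheme.Modules.pullback r).obj (Twist.twistProjSpace n k 1) ≅ L) := by
  obtain ⟨r, hr, hiso, hpre, hrat⟩ := H11P1n.exists_toPn_ratio q hL v hcov
  refine ⟨r, ?_, hr, hiso⟩
  refine (IsZariskiLocalAtTarget.iff_of_iSup_eq_top (P := MorphismProperty.isomorphisms Scheme.{u}) _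
    (H11Proj.ProjSpace.iSup_basicOpen (n := n) (R := k))).2 fun i => ?_
  set D := Proj.basicOpen (polyGrading n k) (MvPolynomial.X i : MvPolynomial (Fin (n + 1)) k) with hDdef
  haveI : IsAffine D.toScheme := H11Proj.SepPts.isAffineOpen_U i
  haveI : IsAffine (r ⁻¹ᵁ D).toScheme := by rw [hpre i]; exact haff i
  have hb : Function.Bijective (r.app D) := by
    have key : ∀ (U : X.Opens) (_ : U = r ⁻¹ᵁ D) (c : {j : Fin (n + 1) // j ≠ i} → Γ(X, U)),
        IsGen L (L.presheaf.map (homOfLE (le_top : U ≤ ⊤)).op (v i)) →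
        (∀ j, L.presheaf.map (homOfLE (le_top : U ≤ ⊤)).op (v j.1) =
          c j • L.presheaf.map (homOfLE (le_top : U ≤ ⊤)).op (v i)) →
        Function.Bijective (MvPolynomial.eval₂Hom (H28Contr.consts q U) c) → Function.Bijective (r.app D) := by
      rintro U rfl c hg hc hθ
      have hce : ∀ j, r.app D (H11Proj.SepPts.t i j.1) = c j := fun j => by
        refine ((hg.bijective le_rfl).1 ?_).symm
        beta_reduce
        rw [H10Coh.mres_self, ← hc]
        exact hrat i j.1
      have hcst : ∀ a, H28Contr.consts q (r ⁻¹ᵁ D) a = r.app D (H11Proj.SepPts.κ i a) := by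
        intro a
        subst hr
        show X.presheaf.map _ ((r ≫ ProjSpace.toSpec n k).appTop _) = r.app D ((ProjSpace n k).presheaf.map _ _)
        rw [Scheme.Hom.comp_appTop, CommRingCat.comp_apply, ← CommRingCat.comp_apply _ (r.app D),
          Scheme.Hom.naturality, CommRingCat.comp_apply]
        rfl
      have hcomp : (r.app D).hom.comp (H11Proj.SepPts.γ i) = MvPolynomial.eval₂Hom (H28Contr.consts q (r ⁻¹ᵁ D)) c := by
        refine MvPolynomial.ringHom_ext (fun a => ?_) (fun j => ?_)
        · rw [MvPolynomial.eval₂Hom_C, hcst, H11Proj.SepPts.κ_eq]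
          rfl
        · rw [MvPolynomial.eval₂Hom_X', ← hce, ← H11Proj.SepPts.γ_X]
          rfl
      have hγ : Function.Bijective (H11Proj.SepPts.γ (k := k) i) :=
        (ConcreteCategory.bijective_of_isIso
          (Proj.basicOpenIsoAway (polyGrading n k) _ (H11Proj.ProjSpace.X_mem n k i) one_pos).hom).comp
          (H11Proj.ProjSpace.chartMap_bijective n k i)
      rw [← hcomp, RingHom.coe_comp] at hθ
      exact (Function.Bijective.of_comp_iff _ hγ).1 hθ
    exact key _ (hpre i).symm (c i) (isGen_gen (v i)) (hc i) (hbij i)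
  have hI : IsIso (r ∣_ D).appTop := by
    refine (ConcreteCategory.isIso_iff_bijective _).2 ?_
    rw [morphismRestrict_appTop]
    have h : ∀ (V : (ProjSpace n k).Opens) (hV : V = D), Function.Bijective (r.app V) := by
      rintro V rfl
      exact hb
    refine H28Contr.bijective_comp_isIso _ _ (Functor.map_isIso X.presheaf _) ?_
    exact h _ (Scheme.Opens.ι_image_top D)
  have hsrc : IsAffine (r ⁻¹ᵁ D).toScheme := (congrArg IsAffineOpen (hpre i)).mpr (haff i)
  exact (HasAffineProperty.iff_of_isAffine (P := MorphismProperty.isomorphisms Scheme.{u})).2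
    ⟨hsrc, hI⟩

end Groth.Agent.H02CA.BlowPts
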