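import Groth.Agent.H02CA.BlowPts.Rows2
import Groth.Agent.H22Alg.CMField
import Groth.Agent.H11P1n.Mult
import Groth.Agent.H10Coh.HHSeq
import Groth.Agent.H28NT.Connectedness
import Groth.Agent.H15Site.Invertible
import Groth.Agent.LeadR1.Local

/-!
# Kernels of linear matrices on the blow-up at no more than one point
-/

set_option autoImplicit false
set_option linter.style.haveILetI false
set_option maxHeartbeats 1600000
universe u

open CategoryTheory CategoryTheory.Limits AlgebraicGeometry TopologicalSpace Opposite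
open Groth.Agent

namespace Groth.Agent.H02CA.BlowPts

attribute [local instance 10000] H10Coh.hasSheafifyAb H10Coh.hasWeakSheafifyAb H10Coh.hasExtAb H10Coh.enoughInjAb
attribute [local instance] H28Vert.picLaw

open H22Alg H11Tilde

variable {k : Type u} [Field k] {n s : ℕ} {X : Scheme.{u}} [IsLocallyNoetherian X] (D : Data k n X s)

/-- Nothing above the dimension. -/
theorem Data.cvan_above (hn : 1 ≤ n) {q : ℕ} (hq : n + 2 ≤ q) (c : ℤ) (d : Fin s → ℕ) :
    CVan q (D.cl c (nexp d)) := by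
  obtain ⟨q, rfl⟩ : ∃ q', q = q' + 1 := ⟨q - 1, by omega⟩
  obtain ⟨C, hC⟩ := D.exists_large hn
  have hpow : ∀ (m : ℕ) (c : ℤ), C ≤ c + m → CVan (q + 1) (D.h ^ c) := by
    intro m
    induction m with
    | zero => intro c h; exact hC c (by omega) _ (by omega)
    | succ m ih =>
      intro c h
      rw [show c = c + 1 - 1 by ring, ← D.cl_zero]
      exact D.e_up (by omega) (by omega) (by rw [D.cl_zero]; exact ih _ (by push_cast at h; omega))
  refine nat_induction (P := fun d => CVan (q + 1) (D.cl c (nexp d))) ?_ (fun d t ih => ?_) d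
  · rw [nexp_zero, D.cl_zero]
    exact hpow (C - c).toNat c (by omega)
  · show CVan (q + 1) (D.cl c (nexp (d + Pi.single t 1)))
    rw [nexp_add_single]
    exact D.ι_up t (by omega) (by simp only [nexp]; omega) ih

/-- Higher cohomology in non-negative exceptional degree. -/
theorem Data.cvan_two' (hn : 1 ≤ n) {q : ℕ} (hq : 2 ≤ q) {c : ℤ} {d : ℤ} (hd : 0 ≤ d)
    (hc : q = n + 1 → -((n : ℤ) + 1) ≤ c) : CVan q (D.cl' c d) := by
  obtain ⟨e, rfl⟩ := Int.eq_ofNat_of_zero_le hd
  by_cases h : n + 2 ≤ q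
  · exact D.cvan_above hn h c fun _ => e
  · exact D.cvan_two hn (fun _ => e) hq hc (Or.inl (by omega))

/-- No sections for negative degree and non-positive exceptional degree. -/
theorem Data.cvan_zero' (hn : 1 ≤ n) (hs : s ≤ 1) {c d : ℤ} (hc : c < 0) (hd : d ≤ 0) : CVan 0 (D.cl' c d) := by
  rcases Nat.le_one_iff_eq_zero_or_eq_one.1 hs with hs | hs
  · rw [D.cl'_of_empty hs]
    exact D.cvan_pow_zero hn hc
  subst hs
  suffices H : ∀ e : ℕ, CVan 0 (D.cl' c (-(e : ℤ))) by
    have := H (-d).toNat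
    rwa [show -(((-d).toNat : ℕ) : ℤ) = d by omega] at this
  intro e
  induction e with
  | zero =>
    rw [D.cl'_eq, Nat.cast_zero, neg_zero, zpow_zero, mul_one]
    exact D.cvan_pow_zero hn hc
  | succ e ih =>
    refine D.ι_down 0 ?_ ?_ ?_
    · push_cast; omega
    · omega
    · have : ((fun _ => -((e + 1 : ℕ) : ℤ)) + Pi.single 0 1 : Fin 1 → ℤ) = fun _ => -(e : ℤ) := funext fun t => by
        rw [Subsingleton.elim t 0]; simp
      rw [this]
      exact ih

variable {π : X ⟶ CohB1.ProjSpace (n + 1) k}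

theorem setup_pullback : CMField.Setup (fun a => (Scheme.Modules.pullback π).obj (Twist.twistProjSpace (n + 1) k a))
    (n + 1) (fun j => H11Ample.pullTop π (CMField.coords k (n + 1) j)) where
  fam := (H10Coh.Stab.isTwistFamily_projSpace (n + 1) k).pullback π
  cover z := by
    obtain ⟨j, hj, hz⟩ := (CMField.setup k (n + 1)).cover (π z)
    refine ⟨j, hj, ?_⟩
    rw [H11P1n.gen_pullTop π ((H10Coh.Stab.isTwistFamily_projSpace (n + 1) k).inv 1)]
    exact hz

/-- Sums keep spanning. -/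
theorem spanned_sigma {a : ℕ} {L N P₁ : X.Modules} (h : CMField.Spanned L N) (e : P₁ ≅ ∐ fun _ : Fin a => N) :
    CMField.Spanned L P₁ := by
  refine CMField.Spanned.of_iso_right ?_ e.symm
  intro S
  let F : Fin a → X.Modules := fun _ => N
  have hid := LeadR1.sum_π_ι F
  let T := (DCoh.tensorBi (X := X)).obj L
  have hS : S = ∑ j, (T.map (Sigma.ι F j)).app ⊤ ((T.map ((biproduct.isoCoproduct F).inv ≫ biproduct.π F j)).app ⊤ S) := by
    haveI : T.Additive := inferInstance
    have h2 := congr($(congrArg (fun w => (T.map w).app ⊤) hid) S)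
    rw [T.map_id] at h2
    refine h2.symm.trans ?_
    rw [T.map_sum]
    have happ : ∀ (J : Finset (Fin a)) (w : Fin a → (T.obj (∐ F) ⟶ T.obj (∐ F))),
        (∑ j ∈ J, w j).app ⊤ S = ∑ j ∈ J, (w j).app ⊤ S := fun J w => by
      induction J using Finset.induction with
      | empty => rw [Finset.sum_empty, Finset.sum_empty]; rfl
      | insert j J hj ih => rw [Finset.sum_insert hj, Finset.sum_insert hj, ← ih]; rfl
    rw [happ]
    refine Finset.sum_congr rfl fun j _ => ?_
    rw [T.map_comp]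
    rfl
  rw [hS]
  refine AddSubgroup.sum_mem _ fun j _ => ?_
  suffices key : ∀ U : Γ(CohB1.tensorMod L N, ⊤), (KosTwist.tensorLeftMap L (Sigma.ι F j)).app ⊤ U ∈
      AddSubgroup.closure {w : Γ(CohB1.tensorMod L (∐ F), ⊤) | ∃ (y : Γ(L, ⊤)) (p : Γ(∐ F, ⊤)), H11Ample.tm y p = w} from
    key _
  intro U
  have hj := h U
  induction hj using AddSubgroup.closure_induction with
  | mem w hw =>
    obtain ⟨y, p, rfl⟩ := hw
    exact AddSubgroup.subset_closure ⟨y, (Sigma.ι F j).app ⊤ p, (KosTwist.map_tm_right L (Sigma.ι F j) y p).symm⟩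
  | zero => rw [map_zero]; exact zero_mem _
  | add x y _ _ hx hy => rw [map_add]; exact add_mem hx hy
  | neg x _ hx => rw [map_neg]; exact neg_mem hx

/-- Surjectivity on sections survives a twist when the products span. -/
theorem surjective_tensor {L P₁ Q₁ : X.Modules} (g : Q₁ ⟶ P₁) (hg : Function.Surjective (g.app ⊤))
    (h : CMField.Spanned L P₁) : Function.Surjective ((KosTwist.tensorLeftMap L g).app ⊤) := by
  intro S
  have hS := h S
  induction hS using AddSubgroup.closure_induction with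
  | mem w hw =>
    obtain ⟨y, p, rfl⟩ := hw
    obtain ⟨q, rfl⟩ := hg p
    exact ⟨H11Ample.tm y q, KosTwist.map_tm_right L g y q⟩
  | zero => exact ⟨0, map_zero _⟩
  | add x y _ _ hx hy =>
    obtain ⟨a, rfl⟩ := hx
    obtain ⟨b, rfl⟩ := hy
    exact ⟨a + b, map_add _ _ _⟩
  | neg x _ hx =>
    obtain ⟨a, rfl⟩ := hx
    exact ⟨-a, map_neg _ _⟩

variable [IsAlgClosed k]

/-- The kernel of a matrix of linear forms surjective on sections has no intermediate cohomology in any
anticanonical twist. -/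
theorem kernel_acm (hn : 2 ≤ n) (hs : s ≤ 1) (hsec : s = 1 → D.HasSec) (hh' : D.h = hh π) {a b : ℕ} {Q₂ P₂ : X.Modules}
    (hQ₂ : Nonempty (Q₂ ≅ ∐ fun _ : Fin b => (Scheme.Modules.pullback π).obj (Twist.twistProjSpace (n + 1) k 1)))
    (hP₂ : Nonempty (P₂ ≅ ∐ fun _ : Fin a => (Scheme.Modules.pullback π).obj (Twist.twistProjSpace (n + 1) k 2)))
    (g : Q₂ ⟶ P₂) [Epi g] (hg : Function.Surjective (g.app ⊤)) (τ : ℤ) {L : X.Modules} (hL : PicF.IsInvertible L)
    (hLc : PicGrp.cls L hL = D.cl' (((n : ℤ) + 2) * τ) ((n : ℤ) * τ)) {i : ℕ} (hi : 1 ≤ i) (hin : i ≤ n) :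
    Subsingleton (Coh.HH X (CohB1.tensorMod (kernel g) L) i) := by
  obtain ⟨L', hL', hc'⟩ := PicGrp.exists_eq_cls (PicGrp.cls L hL)⁻¹
  obtain ⟨e⟩ : Nonempty (CohB1.tensorMod L L' ≅ Coh.structureModule X) := by
    rw [← PicGrp.cls_eq_one_iff (H11Ample.isInvertible_tensor hL hL'),
      show PicGrp.cls _ (H11Ample.isInvertible_tensor hL hL') = PicGrp.cls L hL * PicGrp.cls L' hL' from
        Subtype.ext (PicGrp.cls_mul_cls_val hL hL').symm, ← hc', mul_inv_cancel]
  let T := (DCoh.tensorBi (X := X)).obj L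
  haveI : T.IsEquivalence := H15Site.Invertible.isEquivalence_of_iso_unit (O := X.sheaf) e
  haveI : T.PreservesZeroMorphisms := Functor.preservesZeroMorphisms_of_full T
  haveI : PreservesFiniteLimits T := inferInstance
  haveI : PreservesFiniteColimits T := inferInstance
  have hS : (ShortComplex.mk (kernel.ι g) g (kernel.condition g)).ShortExact :=
    { exact := ShortComplex.exact_kernel _ }
  have hT := hS.map_of_exact T
  refine H10Coh.subsingleton_HH_of_iso (H10Coh.Tw.commIso L (kernel g)) i ?_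
  obtain ⟨hO1, e1⟩ := cls_pullback_twist (k := k) π 1
  obtain ⟨hO2, e2⟩ := cls_pullback_twist (k := k) π 2
  have hcl : ∀ e : ℤ, res π (O1 (n + 1) k) ^ e * PicGrp.cls L hL = D.cl' (((n : ℤ) + 2) * τ + e) ((n : ℤ) * τ) := by
    intro e
    rw [hLc, D.cl'_eq, D.cl'_eq, hh', hh, add_comm _ e, zpow_add]
    exact (mul_assoc _ _ _).symm
  have hQv : CVan i (D.cl' (((n : ℤ) + 2) * τ + 1) ((n : ℤ) * τ)) := by
    rcases le_or_gt 0 τ with hτ | hτ
    · exact D.cvan_high (by omega) hs hsec hi (by nlinarith) (by nlinarith)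
    · exact D.cvan_low (by omega) hs hsec hi hin (by nlinarith) (by nlinarith)
  have hQ : Subsingleton (Coh.HH X (T.obj Q₂) i) := H10Coh.subsingleton_HH_of_iso (H10Coh.Tw.commIso Q₂ L) i
    (sigma_tensor_van hQ₂ hO1 hL (by rw [e1]; exact hcl 1) hQv)
  have hPv : ∀ j, (1 ≤ j ∨ τ < 0) → j < i → CVan j (D.cl' (((n : ℤ) + 2) * τ + 2) ((n : ℤ) * τ)) := by
    intro j hj hji
    rcases Nat.eq_zero_or_pos j with rfl | hj1
    · exact D.cvan_zero' (by omega) hs (by nlinarith [hj.resolve_left (by omega)]) (by nlinarith [hj.resolve_left (by omega)])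
    rcases le_or_gt (-1 : ℤ) τ with hτ | hτ
    · exact D.cvan_high (by omega) hs hsec hj1 (by nlinarith) (by nlinarith)
    · exact D.cvan_low (by omega) hs hsec hj1 (by omega) (by nlinarith) (by nlinarith)
  have hP : ∀ j, (1 ≤ j ∨ τ < 0) → j < i → Subsingleton (Coh.HH X (T.obj P₂) j) := fun j hj hji =>
    H10Coh.subsingleton_HH_of_iso (H10Coh.Tw.commIso P₂ L) j
      (sigma_tensor_van hP₂ hO2 hL (by rw [e2]; exact hcl 2) (hPv j hj hji))
  obtain ⟨i, rfl⟩ : ∃ i', i = i' + 1 := ⟨i - 1, by omega⟩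
  by_cases h : 1 ≤ i ∨ τ < 0
  · exact H10Coh.HHSeq.subsingleton₁ hT (hP i h (Nat.lt_succ_self i)) hQ
  push Not at h
  obtain rfl : i = 0 := by omega
  refine subsingleton_H1_of_surjective hT ?_ hQ
  have hτ0 : 0 ≤ τ := h.2
  let O : ℤ → X.Modules := fun a => (Scheme.Modules.pullback π).obj (Twist.twistProjSpace (n + 1) k a)
  have hfam := (setup_pullback (π := π)).fam
  have hreg : CMField.Reg O L 0 := fun q hq => by
    obtain ⟨hO, eO⟩ := cls_pullback_twist (k := k) π ((0 : ℤ) - q)
    rw [CMField.van_iff, ← cvan_iff (H11Ample.isInvertible_tensor hL hO),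
      show PicGrp.cls _ (H11Ample.isInvertible_tensor hL hO) = PicGrp.cls L hL * PicGrp.cls _ hO from
        Subtype.ext (PicGrp.cls_mul_cls_val hL hO).symm, eO, mul_comm, hcl]
    rcases Nat.lt_or_ge q 2 with hq2 | hq2
    · obtain rfl : q = 1 := by omega
      exact D.cvan_high (by omega) hs hsec le_rfl (by nlinarith) (by push_cast; nlinarith)
    · exact D.cvan_two' (by omega) hq2 (by nlinarith) (fun hqn => by subst hqn; push_cast; nlinarith)
  obtain ⟨z⟩ := hfam.zero
  have hsp : CMField.Spanned L (O 2) :=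
    CMField.Spanned.of_iso_left (CMField.spanned_nat (setup_pullback (π := π)) hreg 2)
      (PicGrp.tensorModIso (Iso.refl L) z ≪≫ SecTwist.unitorR L)
  obtain ⟨eP⟩ := hP₂
  exact surjective_tensor g hg (spanned_sigma hsp eP)

end Groth.Agent.H02CA.BlowPts
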