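import Groth.Agent.H02CA.BlowPts.Hyper
import Groth.Agent.H11Proj.SeparatesPoints
import Groth.Agent.H10Coh.CISupport

/-!
# The linear forms through a closed point
-/

set_option autoImplicit false
set_option linter.style.haveILetI false
set_option maxHeartbeats 1600000
universe u

open CategoryTheory CategoryTheory.Limits AlgebraicGeometry TopologicalSpace Opposite
open Groth.Agent

namespace Groth.Agent.H02CA.BlowPts

variable {k : Type u} [Field k] {N : ℕ}

/-- The form `X_j - a X_i`. -/
noncomputable def pform (i j : Fin (N + 1)) (a : k) : LefPen.Form N k 1 :=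
  ⟨MvPolynomial.X j - MvPolynomial.C a * MvPolynomial.X i, (MvPolynomial.mem_homogeneousSubmodule 1 _).2
    ((MvPolynomial.isHomogeneous_X k j).sub (MvPolynomial.isHomogeneous_C_mul_X a i))⟩

theorem pform_ne_zero {i j : Fin (N + 1)} (hij : j ≠ i) (a : k) : (pform i j a).1 ≠ 0 := fun h => by
  have h' := congrArg (MvPolynomial.coeff (Finsupp.single j 1)) h
  simp [pform, MvPolynomial.coeff_C_mul, MvPolynomial.coeff_X', Finsupp.single_eq_single_iff, Ne.symm hij] at h'

theorem dehom_pform (i j : Fin (N + 1)) (a : k) :
    LefPen.dehom (pform i j a) i = H11Proj.SepPts.t i j - H11Proj.SepPts.κ i a := by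
  rw [H11Proj.SepPts.κ_eq]
  refine Eq.trans (congrArg (Proj.awayToSection (CohB1.polyGrading N k) (MvPolynomial.X i)).hom ?_)
    (map_sub (Proj.awayToSection (CohB1.polyGrading N k) (MvPolynomial.X i)).hom
      (HomogeneousLocalization.Away.mk (CohB1.polyGrading N k) (H11Proj.ProjSpace.X_mem N k i) 1 (MvPolynomial.X j)
        (by simpa using H11Proj.ProjSpace.X_mem N k j))
      (H11Proj.ProjSpace.chartMap N k i (MvPolynomial.C a)))
  refine HomogeneousLocalization.val_injective _ ?_
  rw [H11Proj.ProjSpace.chartMap, MvPolynomial.eval₂Hom_C, HomogeneousLocalization.val_sub,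
    HomogeneousLocalization.Away.val_mk, HomogeneousLocalization.Away.val_mk]
  simp only [RingHom.comp_apply, HomogeneousLocalization.fromZeroRingHom, RingHom.coe_mk, MonoidHom.coe_mk,
    OneHom.coe_mk, HomogeneousLocalization.val_mk, Localization.sub_mk, pform]
  refine Localization.mk_eq_mk_iff.2 (Localization.r_iff_exists.2 ⟨1, ?_⟩)
  simp [MvPolynomial.algebraMap_eq, mul_comm]

end Groth.Agent.H02CA.BlowPts
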