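import Groth.Agent.H02CA.BlowPts.Geom
import Groth.Agent.H02CA.BlowPts.PtForms
import Groth.Agent.H11Strict.Residual
import Groth.Agent.H25AbCube.DualInverse
import Groth.Agent.H28Vert.IdealProd

/-!
# Sections of the pull-back of `O(1)` twisted by one exceptional divisor
-/

set_option autoImplicit false
set_option linter.style.haveILetI false
set_option maxHeartbeats 1600000
universe u

open CategoryTheory CategoryTheory.Limits AlgebraicGeometry TopologicalSpace Opposite
open Groth.Agent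

namespace Groth.Agent.H02CA.BlowPts

attribute [local instance] H28Vert.picLaw

theorem cls_inverse {X : Scheme.{u}} {L F : X.Modules} (hL : PicF.IsInvertible L) (hF : PicF.IsInvertible F)
    (h : ClSub.IsInverseOf L F) : PicGrp.cls L hL = (PicGrp.cls F hF)⁻¹ := by
  refine eq_inv_of_mul_eq_one_left ?_
  rw [show PicGrp.cls L hL * PicGrp.cls F hF = PicGrp.cls _ (H11Ample.isInvertible_tensor hL hF) from
    Subtype.ext (PicGrp.cls_mul_cls_val hL hF), PicGrp.cls_eq_one_iff]
  exact h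

theorem mem_basicOpen_iff {X : Scheme.{u}} {U : X.Opens} (hU : IsAffineOpen U) (r : Γ(X, U)) (x : U) :
    x.1 ∈ X.basicOpen r ↔ r ∉ (hU.primeIdealOf x).asIdeal := by
  rw [← PrimeSpectrum.mem_basicOpen, ← hU.fromSpec_preimage_basicOpen]
  show _ ↔ hU.fromSpec (hU.primeIdealOf x) ∈ X.basicOpen r
  rw [hU.fromSpec_primeIdealOf]

variable {k : Type u} [Field k] [IsAlgClosed k] {n : ℕ}

/-- Sections with no common zero of the class `h u`. -/
theorem exists_Msections {X : Scheme.{u}} {π : X ⟶ CohB1.ProjSpace (n + 1) k} {p : CohB1.ProjSpace (n + 1) k}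
    (hp : IsClosed ({p} : Set (CohB1.ProjSpace (n + 1) k)))
    (hπ : BlowUp.IsBlowUp π (Scheme.IdealSheafData.vanishingIdeal ⟨{p}, hp⟩))
    (hJ : BlowUp.IsEffCartierIdeal ((Scheme.IdealSheafData.vanishingIdeal ⟨{p}, hp⟩).comap π)) :
    ∃ (L : X.Modules) (hL : PicF.IsInvertible L) (v : ℕ → Γ(L, ⊤)),
      PicGrp.cls L hL = res π (O1 (n + 1) k) * H28Vert.idealCls hJ ∧
        ∀ z : X, ∃ j < n + 1, z ∈ H11Ample.gen L (v j) := by
  classical
  let PP : Scheme.{u} := CohB1.ProjSpace (n + 1) k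
  set Ip := Scheme.IdealSheafData.vanishingIdeal (X := CohB1.ProjSpace (n + 1) k) ⟨{p}, hp⟩ with hIp
  obtain ⟨i, hi⟩ := H11Ample.exists_mem_basicOpen_X (n := n + 1) (R := k) p
  have hU := H11Proj.SepPts.isAffineOpen_U (k := k) i
  let UU : PP.Opens := H11Proj.SepPts.U (k := k) i
  haveI hmax := H11Proj.SepPts.isMaximal_primeIdealOf (i := i) hi hp
  obtain ⟨α, hα, hspan⟩ := H11Proj.SepPts.exists_coords (hU.primeIdealOf ⟨p, hi⟩).asIdeal
  have hone : Ip.ideal ⟨UU, hU⟩ = (hU.primeIdealOf ⟨p, hi⟩).asIdeal := by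
    rw [hIp, Scheme.IdealSheafData.vanishingIdeal_ideal]
    have h : hU.fromSpec ⁻¹' ({p} : Set PP) = {hU.primeIdealOf ⟨p, hi⟩} := by
      ext z
      constructor
      · intro hz
        exact hU.fromSpec.isOpenEmbedding.injective ((show hU.fromSpec z = p from hz).trans
          (hU.fromSpec_primeIdealOf ⟨p, hi⟩).symm)
      · rintro rfl
        exact hU.fromSpec_primeIdealOf ⟨p, hi⟩
    exact (congrArg PrimeSpectrum.vanishingIdeal h).trans (PrimeSpectrum.vanishingIdeal_singleton _)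
  have hdI : ∀ j : Fin (n + 2), LefPen.dehom (pform i j (α j)) i ∈ Ip.ideal ⟨UU, hU⟩ := fun j => by
    rw [hone, dehom_pform]
    exact hα j
  let G : Fin (n + 1) → LefPen.Form (n + 1) k 1 := fun j => pform i (i.succAbove j) (α (i.succAbove j))
  have hG : ∀ j, (G j).1 ≠ 0 := fun j => pform_ne_zero (Fin.succAbove_ne i j) _
  have hpsupp : ∀ j, p ∈ (LefPen.hypIdeal (G j)).support := fun j => by
    rw [Scheme.IdealSheafData.mem_support_iff_of_mem (U := H25Transversal.chartU (n + 1) k i) hi,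
      H25Transversal.hypIdeal_ideal_chart]
    show p ∈ (CohB1.ProjSpace (n + 1) k).zeroLocus (U := LefPen.chart (n + 1) k i)
      (Ideal.span {LefPen.dehom (G j) i} : Set Γ(CohB1.ProjSpace (n + 1) k, LefPen.chart (n + 1) k i))
    rw [Scheme.zeroLocus_span, Scheme.zeroLocus_singleton]
    intro hb
    exact (mem_basicOpen_iff hU _ ⟨p, hi⟩).1 hb (hone ▸ hdI (i.succAbove j))
  have hle : ∀ j, LefPen.hypIdeal (G j) ≤ Ip := fun j =>
    Scheme.IdealSheafData.le_support_iff_le_vanishingIdeal.1 (fun z hz => (show z = p from hz) ▸ hpsupp j)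
  have hD : ∀ j, BlowUp.IsEffCartierIdeal ((LefPen.hypIdeal (G j)).comap π) := fun j =>
    H29Blow.isEffCartierIdeal_comap_blowUp hπ (H10Coh.CI.isEffCartierIdeal_hypIdeal (G j) (hG j))
  have hres : ∀ j, ∃ R, Ip.comap π * R = (LefPen.hypIdeal (G j)).comap π := fun j =>
    H11Strict.exists_eq_mul hJ (Scheme.IdealSheafData.comap_mono π (hle j))
  choose R hR using hres
  have hRe : ∀ j, BlowUp.IsEffCartierIdeal (R j) := fun j =>
    H29Blow.isEffCartierIdeal_right_of_mul ((hR j).symm ▸ hD j)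
  have hRi : ∀ j, PicF.IsInvertible (ClSub.idealMod (R j)) := fun j => H29Blow.isInvertible_of_isEffCartierIdeal _ (hRe j)
  have hRc : ∀ j, PicGrp.cls _ (hRi j) = (res π (O1 (n + 1) k) * H28Vert.idealCls hJ)⁻¹ := fun j => by
    obtain ⟨σ⟩ := H10Coh.CI.nonempty_idealMod_hypIdeal (G j) (hG j)
    obtain ⟨τ⟩ := H12Pic.CurveFam.nonempty_pullback_idealMod_comap π
      (H10Coh.CI.isEffCartierIdeal_hypIdeal (G j) (hG j)) (hD j)
    obtain ⟨μ⟩ := H28Vert.nonempty_idealMod_mul hJ (hRe j)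
    have h1 : PicGrp.cls _ (H29Blow.isInvertible_of_isEffCartierIdeal _ hJ) * PicGrp.cls _ (hRi j) =
        res π (O1 (n + 1) k ^ (-1 : ℤ)) := by
      rw [← cls_twist, res_cls]
      refine (show _ = PicGrp.cls _ (H11Ample.isInvertible_tensor (H29Blow.isInvertible_of_isEffCartierIdeal _ hJ)
        (hRi j)) from Subtype.ext (PicGrp.cls_mul_cls_val _ _)).trans (cls_eq_of_iso _ _ ⟨μ ≪≫
          eqToIso (congrArg ClSub.idealMod (hR j)) ≪≫ τ.symm ≪≫ (Scheme.Modules.pullback π).mapIso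
            (σ ≪≫ eqToIso (congrArg (Twist.twistProjSpace (n + 1) k) (by simp)))⟩)
    unfold H28Vert.idealCls
    rw [mul_inv, eq_comm, ← map_inv, ← zpow_neg_one, ← h1, mul_comm _ (PicGrp.cls _ (hRi j)), mul_inv_cancel_right]
  obtain ⟨B, hB, hBc⟩ := PicGrp.exists_eq_cls (res π (O1 (n + 1) k) * H28Vert.idealCls hJ)
  have hdual : ∀ j, PicF.IsInvertible (RefHull.dual (ClSub.idealMod (R j))) := fun j =>
    H8Props.DivisorSection.isInvertible_dual (hRi j)
  have hφ : ∀ j, Nonempty (RefHull.dual (ClSub.idealMod (R j)) ≅ B) := fun j => by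
    refine (PicGrp.cls_eq_cls_iff (hdual j) hB).1 ?_
    rw [cls_inverse (hdual j) (hRi j) (H25AbCube.isInverseOf_dual (hRi j)), hRc, inv_inv, hBc]
  let v : ℕ → Γ(B, ⊤) := fun j => if h : j < n + 1 then
    (hφ ⟨j, h⟩).some.hom.app ⊤ (RefHull.ofHom (ClSub.idealModι (R ⟨j, h⟩)) ⊤) else 0
  refine ⟨B, hB, v, hBc.symm, fun z => ?_⟩
  suffices h : ∃ j : Fin (n + 1), z ∉ (R j).support by
    obtain ⟨j, hj⟩ := h
    refine ⟨j.1, j.2, ?_⟩
    simp only [v, dif_pos j.2]
    rw [H11Ample.gen_iso, H25AbCube.gen_ofHom (hRe j)]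
    exact hj
  by_contra hall
  push Not at hall
  have hsub : ∀ j (W : X.affineOpens), ((LefPen.hypIdeal (G j)).comap π).ideal W ≤ (R j).ideal W := fun j W => by
    rw [← hR j, Scheme.IdealSheafData.ideal_mul, Pi.mul_apply]
    exact Ideal.mul_le_right
  by_cases hzU : π z ∈ UU
  · obtain ⟨W₀, hW₀, a, hzW, hWle, ha, haW⟩ : ∃ (W : X.Opens) (hW : IsAffineOpen W) (a : Γ(X, W)), z ∈ W ∧
        W ≤ π ⁻¹ᵁ UU ∧ a ∈ nonZeroDivisors _ ∧ (Ip.comap π).ideal ⟨W, hW⟩ = Ideal.span {a} := by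
      obtain ⟨V, hzV, hVle, a, ha, haV⟩ := H29Blow.exists_gen hJ (W := π ⁻¹ᵁ UU) (x := z) hzU
      exact ⟨V.1, V.2, a, hzV, hVle, ha, haV⟩
    have hRz : ∀ j, (R j).ideal ⟨W₀, hW₀⟩ ≤ (hW₀.primeIdealOf ⟨z, hzW⟩).asIdeal := fun j r hr => by
      by_contra hr'
      have hb := (mem_basicOpen_iff hW₀ r ⟨z, hzW⟩).2 hr'
      have h2 := (Scheme.IdealSheafData.mem_support_iff_of_mem (U := ⟨W₀, hW₀⟩) hzW).1 (hall j)
      rw [Scheme.mem_zeroLocus_iff] at h2
      exact h2 r hr hb
    have hIspan : Ip.ideal ⟨UU, hU⟩ ≤ Ideal.span (Set.range fun j => LefPen.dehom (G j) i) := by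
      rw [hone, hspan, Ideal.span_le]
      rintro _ ⟨j, rfl⟩
      rcases eq_or_ne j i with rfl | hj
      · have h0 : H11Proj.SepPts.t j j - H11Proj.SepPts.κ j (α j) = 0 := by
          by_contra hne
          have hu : α j ≠ 1 := fun h => hne (by rw [H11Proj.SepPts.t_self, h, map_one, sub_self])
          refine hmax.ne_top (Ideal.eq_top_of_isUnit_mem _ (hα j) ?_)
          rw [H11Proj.SepPts.t_self, ← map_one (H11Proj.SepPts.κ (k := k) j), ← map_sub]
          exact (IsUnit.mk0 _ (sub_ne_zero.2 hu.symm)).map _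
        show _ ∈ Ideal.span _
        simp only [h0]
        exact Ideal.zero_mem _
      · obtain ⟨l, rfl⟩ := Fin.exists_succAbove_eq hj
        exact Ideal.subset_span ⟨l, dehom_pform i _ _⟩
    have hmem : a ∈ Ideal.span {a} * (hW₀.primeIdealOf ⟨z, hzW⟩).asIdeal := by
      have hall' : (Ip.comap π).ideal ⟨W₀, hW₀⟩ ≤
          Ideal.span {a} * (hW₀.primeIdealOf ⟨z, hzW⟩).asIdeal := by
        rw [H29Blow.ideal_comap Ip π ⟨UU, hU⟩ ⟨W₀, hW₀⟩ hWle, Ideal.map_le_iff_le_comap]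
        refine hIspan.trans (Ideal.span_le.2 ?_)
        rintro _ ⟨j, rfl⟩
        rw [SetLike.mem_coe, Ideal.mem_comap]
        show (π.appLE UU W₀ hWle).hom (LefPen.dehom (G j) i) ∈ Ideal.span {a} * (hW₀.primeIdealOf ⟨z, hzW⟩).asIdeal
        have h3 : ((LefPen.hypIdeal (G j)).comap π).ideal ⟨W₀, hW₀⟩ =
            Ideal.span {(π.appLE UU W₀ hWle).hom (LefPen.dehom (G j) i)} := by
          rw [H29Blow.ideal_comap _ π (H25Transversal.chartU (n + 1) k i) ⟨W₀, hW₀⟩ hWle,
            H25Transversal.hypIdeal_ideal_chart]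
          exact (Ideal.map_span _ _).trans (congrArg Ideal.span (Set.image_singleton (f := _) (a := _)))
        rw [← hR j, Scheme.IdealSheafData.ideal_mul, Pi.mul_apply, haW] at h3
        exact Ideal.mul_mono le_rfl (hRz j) (h3.ge (Ideal.mem_span_singleton_self _))
      exact hall' (haW ▸ Ideal.mem_span_singleton_self a)
    obtain ⟨r, hr, hra⟩ := Ideal.mem_span_singleton_mul.1 hmem
    have h1 : r = 1 := by
      have h0 : (r - 1) * a = 0 := by rw [sub_mul, one_mul, mul_comm, hra, sub_self]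
      exact sub_eq_zero.1 ((mem_nonZeroDivisors_iff_right.1 ha) _ h0)
    exact (hW₀.primeIdealOf ⟨z, hzW⟩).isPrime.ne_top ((Ideal.eq_top_iff_one _).2 (h1 ▸ hr))
  · have hX : ∀ l : Fin (n + 2), (MvPolynomial.X l : MvPolynomial (Fin (n + 2)) k) ∈
        (π z).asHomogeneousIdeal.toIdeal := fun l => by
      have hXi : (MvPolynomial.X i : MvPolynomial (Fin (n + 2)) k) ∈ (π z).asHomogeneousIdeal.toIdeal :=
        not_not.1 hzU
      rcases eq_or_ne l i with rfl | hl
      · exact hXi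
      · obtain ⟨j, rfl⟩ := Fin.exists_succAbove_eq hl
        have h2 : π z ∈ (LefPen.hypIdeal (G j)).support := by
          have h3 : z ∈ ((LefPen.hypIdeal (G j)).comap π).support := by
            have h4 := hall j
            obtain ⟨W, hW, hzW, -⟩ := exists_isAffineOpen_mem_and_subset (Opens.mem_top z)
            rw [Scheme.IdealSheafData.mem_support_iff_of_mem (U := ⟨W, hW⟩) hzW] at h4 ⊢
            exact Scheme.zeroLocus_mono X (hsub j ⟨W, hW⟩) h4
          have h3' : z ∈ (((LefPen.hypIdeal (G j)).comap π).support : Set X) := h3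
          rw [Scheme.IdealSheafData.support_comap] at h3'
          exact h3'
        have h5 := (H10Coh.CISupport.mem_support_hypIdeal (G j) (π z)).1 h2
        have h6 := Ideal.add_mem _ (show (G j).1 ∈ (π z).asHomogeneousIdeal.toIdeal from h5)
          (Ideal.mul_mem_left _ (MvPolynomial.C (α (i.succAbove j))) hXi)
        simpa [G, pform] using h6
    obtain ⟨l, hl⟩ := H11Ample.exists_mem_basicOpen_X (n := n + 1) (R := k) (π z)
    exact hl (hX l)

end Groth.Agent.H02CA.BlowPts
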