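import Groth.Agent.H02CA.BlowPts.Geom

/-!
# The modules of the statements as classes
-/

set_option autoImplicit false
set_option linter.style.haveILetI false
set_option maxHeartbeats 1600000
universe u

open CategoryTheory CategoryTheory.Limits AlgebraicGeometry TopologicalSpace Opposite
open Groth.Agent

namespace Groth.Agent.H02CA.BlowPts

attribute [local instance] H28Vert.picLaw

variable {k : Type u} [Field k] [IsAlgClosed k] {n s : ℕ} {P : Fin s → CohB1.ProjSpace (n + 1) k}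
  (hP : Function.Injective P) (hPc : ∀ t, IsClosed ({P t} : Set (CohB1.ProjSpace (n + 1) k)))
  {hZ : IsClosed (Set.range P)} {X : Scheme.{u}} {π : X ⟶ CohB1.ProjSpace (n + 1) k}
  (hπ : BlowUp.IsBlowUp π (IZ P hZ))

theorem cls_pullback_twist {Y : Scheme.{u}} (g : Y ⟶ CohB1.ProjSpace (n + 1) k) (c : ℤ) :
    ∃ h : PicF.IsInvertible ((Scheme.Modules.pullback g).obj (Twist.twistProjSpace (n + 1) k c)),
      PicGrp.cls _ h = res g (O1 (n + 1) k) ^ c :=
  ⟨PicLoc.isInvertible_pullback g ((H10Coh.Stab.isTwistFamily_projSpace (n + 1) k).inv c), by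
    rw [← map_zpow, ← cls_twist, res_cls]⟩

theorem cls_mod (c : ℤ) (d : Fin s → ℕ) :
    ∃ h : PicF.IsInvertible (CohB1.tensorMod ((Scheme.Modules.pullback π).obj (Twist.twistProjSpace (n + 1) k c))
        (FGA.multiTwist (fun t : Fin s => ClSub.idealMod ((Ipt P hPc t).comap π)) d)),
      PicGrp.cls _ h = hh π ^ c * ∏ t, uu (hPc := hPc) hP hπ t ^ d t := by
  obtain ⟨h₁, e₁⟩ := cls_pullback_twist π c
  obtain ⟨h₂, e₂⟩ := H28Vert.cls_multiTwist (fun t : Fin s =>
    H29Blow.isInvertible_of_isEffCartierIdeal _ (exists_exc (hPc := hPc) hP t hπ).1) d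
  refine ⟨H11Ample.isInvertible_tensor h₁ h₂, ?_⟩
  rw [show PicGrp.cls _ (H11Ample.isInvertible_tensor h₁ h₂) = PicGrp.cls _ h₁ * PicGrp.cls _ h₂ from
    Subtype.ext (PicGrp.cls_mul_cls_val h₁ h₂).symm, e₁, e₂]
  rfl

include hP hπ in
theorem subsingleton_of_data {q : ℕ} (c : ℤ) (d : Fin s → ℕ)
    (h : ∀ D : Data k n X s, CVan q (D.cl c (nexp d))) :
    Subsingleton (Coh.HH X (CohB1.tensorMod ((Scheme.Modules.pullback π).obj (Twist.twistProjSpace (n + 1) k c))
      (FGA.multiTwist (fun t : Fin s => ClSub.idealMod ((Ipt P hPc t).comap π)) d)) q) := by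
  obtain ⟨D, hh', hu⟩ := exists_data (hPc := hPc) hP hπ
  obtain ⟨hi, he⟩ := cls_mod hP hPc hπ c d
  refine (cvan_iff hi).1 ?_
  have := h D
  rw [Data.cl, hh', hu] at this
  simpa [he, nexp, zpow_natCast] using this

end Groth.Agent.H02CA.BlowPts
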