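import Groth.Agent.H02CA.BlowPts.Rows
import Groth.Agent.H02CA.BlowPts.PtSections
import Groth.Agent.H02CA.BlowPts.Koszul

/-!
# Cohomology of the twists on the blow-up at no more than one point
-/

set_option autoImplicit false
set_option linter.style.haveILetI false
set_option maxHeartbeats 1600000
universe u

open CategoryTheory CategoryTheory.Limits AlgebraicGeometry TopologicalSpace Opposite
open Groth.Agent

namespace Groth.Agent.H02CA.BlowPts

attribute [local instance] H28Vert.picLaw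

variable {k : Type u} [Field k] {n s : ℕ} {X : Scheme.{u}} [IsLocallyNoetherian X] (D : Data k n X s)

/-- The classes `h^c (∏ u)^d`. -/
noncomputable def Data.cl' (c d : ℤ) : PicLoc.PicSet X := D.cl c fun _ => d

theorem Data.cl'_eq (c d : ℤ) : D.cl' c d = D.h ^ c * (∏ t, D.u t) ^ d := by
  rw [Data.cl', Data.cl, ← Finset.prod_zpow]

theorem Data.cl'_of_empty (hs : s = 0) (c d : ℤ) : D.cl' c d = D.h ^ c := by
  subst hs
  rw [D.cl'_eq, Finset.univ_eq_empty, Finset.prod_empty, one_zpow, mul_one]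

/-- Generation by sections of the class `h ∏ u`. -/
def Data.HasSec : Prop := ∃ (L : X.Modules) (hL : PicF.IsInvertible L) (v : ℕ → Γ(L, ⊤)),
    PicGrp.cls L hL = D.h * ∏ t, D.u t ∧ ∀ z : X, ∃ j < n + 1, z ∈ H11Ample.gen L (v j)

variable (hn : 1 ≤ n) (hs : s = 1) (hsec : D.HasSec)

include hn hs in
theorem Data.cacyc_range (m : ℤ) (hm : -(n : ℤ) ≤ m) (hm' : m ≤ 0) : CAcyc (D.cl' (m - 1) m) := by
  subst hs
  have hbase : CAcyc (D.cl' (m - 1) 0) := fun q => by
    rw [D.cl'_eq, zpow_zero, mul_one]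
    rcases Nat.eq_zero_or_pos q with rfl | hq
    · exact D.cvan_pow_zero hn (by omega)
    · exact D.cvan_pow hn hq (fun _ => by omega) (Or.inr (by omega))
  intro q
  suffices H : ∀ e : ℕ, m ≤ -(e : ℤ) → CVan q (D.cl' (m - 1) (-(e : ℤ))) by
    have := H (-m).toNat (by omega)
    rwa [show -(((-m).toNat : ℕ) : ℤ) = m by omega] at this
  intro e
  induction e with
  | zero => intro _; simpa using hbase q
  | succ e ih =>
    intro he
    refine D.ι_down 0 ?_ ?_ ?_
    · push_cast at he ⊢; omega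
    · push_cast at he ⊢; omega
    · have h := ih (by push_cast at he; omega)
      have : ((fun _ => -((e + 1 : ℕ) : ℤ)) + Pi.single 0 1 : Fin 1 → ℤ) = fun _ => -(e : ℤ) := funext fun t => by
        rw [Subsingleton.elim t 0]; simp
      rw [this]
      exact h

include hn hs hsec in
/-- The classes `(m-1) h + m u` have no cohomology. -/
theorem Data.cacyc (m : ℤ) : CAcyc (D.cl' (m - 1) m) := by
  obtain ⟨L, hL, v, hc, hv⟩ := hsec
  have hshift : ∀ (a : ℤ) (j : ℕ), D.cl' (a - 1) a * PicGrp.cls L hL ^ j = D.cl' (a + j - 1) (a + j) := fun a j => by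
    rw [hc, D.cl'_eq, D.cl'_eq, ← zpow_natCast, mul_zpow, show a + (j : ℤ) - 1 = a - 1 + j by ring, zpow_add, zpow_add]
    exact mul_mul_mul_comm _ _ _ _
  suffices H : ∀ (e : ℕ) (m : ℤ), -(n : ℤ) - e ≤ m → m ≤ e → CAcyc (D.cl' (m - 1) m) from
    H (m.natAbs) m (by omega) (by omega)
  intro e
  induction e with
  | zero => intro m h1 h2; exact D.cacyc_range hn hs m (by simpa using h1) (by simpa using h2)
  | succ e ih =>
    intro m h1 h2
    push_cast at h1 h2
    by_cases hlo : m < -(n : ℤ) - e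
    · refine (cacyc_koszul hL v (n + 1) hv (D.cl' (m - 1) m)).2 fun j hj1 hj2 => ?_
      rw [hshift]
      exact ih _ (by omega) (by omega)
    by_cases hhi : (e : ℤ) < m
    · have h := (cacyc_koszul hL v (n + 1) hv (D.cl' (m - (n + 1) - 1) (m - (n + 1)))).1 fun j hj => by
        rw [hshift]
        exact ih _ (by omega) (by omega)
      rw [hshift, Nat.cast_add, Nat.cast_one, sub_add_cancel] at h
      exact h
    exact ih m (by omega) (by omega)

variable {c d : ℤ} {q : ℕ}

include hn in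
/-- Above the diagonal. -/
theorem Data.cvan_high (hs : s ≤ 1) (hsec : s = 1 → D.HasSec) (hq : 1 ≤ q) (hd : -(n : ℤ) ≤ d) (hc : d - 1 ≤ c) :
    CVan q (D.cl' c d) := by
  rcases Nat.le_one_iff_eq_zero_or_eq_one.1 hs with hs | hs
  · rw [D.cl'_of_empty hs]
    exact D.cvan_pow hn hq (fun _ => by omega) (Or.inr (by omega))
  suffices H : ∀ e : ℕ, CVan q (D.cl' (d - 1 + e) d) by
    have := H (c - (d - 1)).toNat
    rwa [show d - 1 + ((c - (d - 1)).toNat : ℕ) = c by omega] at this
  intro e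
  induction e with
  | zero => simpa using D.cacyc hn hs (hsec hs) d q
  | succ e ih =>
    refine D.e_down ?_ ?_ ?_
    · push_cast; omega
    · push_cast; omega
    · rw [show d - 1 + ((e + 1 : ℕ) : ℤ) - 1 = d - 1 + e by push_cast; ring]
      exact ih

include hn in
/-- Below the diagonal. -/
theorem Data.cvan_low (hs : s ≤ 1) (hsec : s = 1 → D.HasSec) (hq : 1 ≤ q) (hq' : q ≤ n) (hd : d ≤ 0) (hc : c ≤ d - 1) :
    CVan q (D.cl' c d) := by
  rcases Nat.le_one_iff_eq_zero_or_eq_one.1 hs with hs | hs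
  · rw [D.cl'_of_empty hs]
    exact D.cvan_pow hn hq (fun _ => by omega) (Or.inl (by omega))
  suffices H : ∀ e : ℕ, CVan q (D.cl' (d - 1 - e) d) by
    have := H (d - 1 - c).toNat
    rwa [show d - 1 - ((d - 1 - c).toNat : ℕ) = c by omega] at this
  intro e
  obtain ⟨q, rfl⟩ : ∃ q', q = q' + 1 := ⟨q - 1, by omega⟩
  induction e with
  | zero => simpa using D.cacyc hn hs (hsec hs) d (q + 1)
  | succ e ih =>
    rw [show d - 1 - ((e + 1 : ℕ) : ℤ) = d - 1 - e - 1 by push_cast; ring]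
    exact D.e_up (by omega) (by omega) ih

variable [IsAlgClosed k] {P : Fin s → CohB1.ProjSpace (n + 1) k}
  {hPc : ∀ t, IsClosed ({P t} : Set (CohB1.ProjSpace (n + 1) k))}
  {hZ : IsClosed (Set.range P)} {π : X ⟶ CohB1.ProjSpace (n + 1) k}

/-- The data of one point have their sections. -/
theorem hasSec_of_eq (hP : Function.Injective P) (hπ : BlowUp.IsBlowUp π (IZ P hZ)) (hh' : D.h = hh π)
    (hu : D.u = uu (hPc := hPc) hP hπ) (hs : s = 1) : D.HasSec := by
  subst hs
  have hset : (Set.range P) = {P 0} := Set.range_unique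
  have hπ' : BlowUp.IsBlowUp π (Ipt P hPc 0) := by
    have : (⟨Set.range P, hZ⟩ : Closeds (CohB1.ProjSpace (n + 1) k)) = ⟨{P 0}, hPc 0⟩ := Closeds.ext hset
    rwa [IZ, this] at hπ
  obtain ⟨L, hL, v, hc, hv⟩ := exists_Msections (hPc 0) hπ' (exists_exc (hPc := hPc) hP 0 hπ).1
  refine ⟨L, hL, v, ?_, hv⟩
  rw [hc, Fin.prod_univ_one, hh', hu]
  rfl

theorem sigma_tensor_van {a : ℕ} {M P₁ H : X.Modules} (e : Nonempty (P₁ ≅ ∐ fun _ : Fin a => M))
    (hM : PicF.IsInvertible M) (hH : PicF.IsInvertible H) {c : PicLoc.PicSet X}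
    (hc : PicGrp.cls M hM * PicGrp.cls H hH = c) (h : CVan q c) :
    Subsingleton (Coh.HH X (CohB1.tensorMod P₁ H) q) := by
  obtain ⟨e⟩ := e
  refine H10Coh.subsingleton_HH_of_iso (PicGrp.tensorModIso e.symm (Iso.refl H)) q ?_
  rw [← H22Alg.CMField.van_iff]
  refine H10Coh.Tw.subsingleton_sigma_tensor _ hH fun _ => H22Alg.CMField.van_iff.2 ?_
  rw [← cvan_iff (H11Ample.isInvertible_tensor hM hH)]
  rw [show PicGrp.cls M hM * PicGrp.cls H hH = PicGrp.cls _ (H11Ample.isInvertible_tensor hM hH) from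
    Subtype.ext (PicGrp.cls_mul_cls_val hM hH)] at hc
  rwa [hc]

end Groth.Agent.H02CA.BlowPts
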